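import Cfsg.Agent.Lib.Classical.OmegaFive
import Cfsg.Agent.Lib.PrimeOrderSp.SpGL
import Cfsg.Agent.Lib.Geometry.GeoOmega
import Cfsg.Prelude.Def_GeometricClasses

/-!
`Sp₄(q) → Ω₅(q)` as conjugation on the five-space of trace-zero skew operators.
-/

set_option autoImplicit false
set_option linter.unusedSectionVars false

namespace CfsgLib.Sp4Odd

open QuadraticMap CfsgLib.Geometry CfsgLib.Classical Matrix

variable {F : Type*} [Field F]

local notation "MM" => Matrix (Fin 2 ⊕ Fin 2) (Fin 2 ⊕ Fin 2) F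
local notation "GG" => Matrix.GeneralLinearGroup (Fin 2 ⊕ Fin 2) F
local notation "V5" => (Unit ⊕ (Fin 2 ⊕ Fin 2) → F)
local notation "Q5" => matQuad (oddMat 2 F)
local notation "Sp4" => Matrix.symplecticGroup (Fin 2) F
local notation "J4" => Matrix.J (Fin 2) F

/-- The operator of a vector: it squares to the value of the form. -/
def TT : (Unit ⊕ (Fin 2 ⊕ Fin 2) → F) →ₗ[F] Matrix (Fin 2 ⊕ Fin 2) (Fin 2 ⊕ Fin 2) F where
  toFun v := Matrix.fromBlocks
    !![v (.inl ()), v (.inr (.inl 1)); v (.inr (.inr 1)), -v (.inl ())]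
    !![0, -v (.inr (.inl 0)); v (.inr (.inl 0)), 0]
    !![0, v (.inr (.inr 0)); -v (.inr (.inr 0)), 0]
    !![v (.inl ()), v (.inr (.inr 1)); v (.inr (.inl 1)), -v (.inl ())]
  map_add' u v := by
    ext i j
    rcases i with i | i <;> rcases j with j | j <;> fin_cases i <;> fin_cases j <;> simp <;> ring
  map_smul' c v := by
    ext i j
    rcases i with i | i <;> rcases j with j | j <;> fin_cases i <;> fin_cases j <;> simp

theorem TT_mul_self (v : V5) : TT v * TT v = Q5 v • (1 : MM) := by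
  rw [coe_matQuad_odd]
  ext i j
  rcases i with i | i <;> rcases j with j | j <;> fin_cases i <;> fin_cases j <;>
    simp [TT, Matrix.mul_apply, Fintype.sum_sum_type, Fin.sum_univ_two, Cfsg.quadFormOdd] <;> ring

theorem TT_anticomm (u v : V5) : TT u * TT v + TT v * TT u = polar Q5 u v • (1 : MM) := by
  have h := TT_mul_self (u + v)
  rw [map_add, add_mul, mul_add, mul_add, TT_mul_self, TT_mul_self] at h
  rw [QuadraticMap.polar, sub_smul, sub_smul, ← h]
  abel

theorem TT_injective : Function.Injective (TT (F := F)) := by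
  refine (injective_iff_map_eq_zero _).2 fun v hv => funext fun i => ?_
  rcases i with i | (i | i)
  · simpa [TT] using congrFun (congrFun hv (.inl 0)) (.inl 0)
  · fin_cases i
    · simpa [TT] using congrFun (congrFun hv (.inl 1)) (.inr 0)
    · simpa [TT] using congrFun (congrFun hv (.inl 0)) (.inl 1)
  · fin_cases i
    · simpa [TT] using congrFun (congrFun hv (.inr 0)) (.inl 1)
    · simpa [TT] using congrFun (congrFun hv (.inl 1)) (.inl 0)

theorem TT_transpose (v : V5) : (TT v)ᵀ * J4 = J4 * TT v := by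
  ext i j
  rcases i with i | i <;> rcases j with j | j <;> fin_cases i <;> fin_cases j <;>
    simp [TT, Matrix.J, Matrix.mul_apply, Fintype.sum_sum_type, Fin.sum_univ_two]

theorem TT_trace (v : V5) : (TT v).trace = 0 := by
  simp [TT, Matrix.trace, Fintype.sum_sum_type, Fin.sum_univ_two]

/-- The self-adjoint operators of trace zero are the five-space. -/
theorem exists_TT (h2 : (2 : F) ≠ 0) {A : MM} (hA : Aᵀ * J4 = J4 * A) (ht : A.trace = 0) :
    ∃ v, TT v = A := by
  have e := fun i j => congrFun (congrFun hA i) j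
  have a1 := e (.inl 0) (.inl 0); have a2 := e (.inl 0) (.inl 1); have a3 := e (.inl 1) (.inl 1)
  have a4 := e (.inr 0) (.inr 0); have a5 := e (.inr 0) (.inr 1); have a6 := e (.inr 1) (.inr 1)
  have a7 := e (.inl 0) (.inr 0); have a8 := e (.inl 0) (.inr 1); have a9 := e (.inl 1) (.inr 0)
  have a10 := e (.inl 1) (.inr 1)
  simp [Matrix.J, Matrix.mul_apply, Fintype.sum_sum_type, Fin.sum_univ_two, Matrix.one_apply]
    at a1 a2 a3 a4 a5 a6 a7 a8 a9 a10
  simp [Matrix.trace, Fintype.sum_sum_type, Fin.sum_univ_two] at ht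
  have z1 : A (.inr 0) (.inl 0) = 0 := mul_left_cancel₀ h2 (by linear_combination a1)
  have z2 : A (.inr 1) (.inl 1) = 0 := mul_left_cancel₀ h2 (by linear_combination a3)
  have z3 : A (.inl 0) (.inr 0) = 0 := mul_left_cancel₀ h2 (by linear_combination -a4)
  have z4 : A (.inl 1) (.inr 1) = 0 := mul_left_cancel₀ h2 (by linear_combination -a6)
  have z5 : A (.inl 1) (.inl 1) = -A (.inl 0) (.inl 0) := mul_left_cancel₀ h2 (by
    linear_combination ht + a7 + a10)
  refine ⟨Sum.elim (fun _ => A (.inl 0) (.inl 0))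
    (Sum.elim ![A (.inl 1) (.inr 0), A (.inl 0) (.inl 1)] ![A (.inr 0) (.inl 1), A (.inl 1) (.inl 0)]), ?_⟩
  ext i j
  rcases i with i | i <;> rcases j with j | j <;> fin_cases i <;> fin_cases j <;>
    simp [TT, z1, z2, z3, z4, z5] <;> grind

local notation "pick" => fun (i : Unit ⊕ (Fin 2 ⊕ Fin 2)) => (Pi.single i 1 : Unit ⊕ (Fin 2 ⊕ Fin 2) → F)

/-- Only scalars commute with the five-space. -/
theorem scalar_of_commute (h2 : (2 : F) ≠ 0) {B : MM} (h : ∀ v, B * TT v = TT v * B) :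
    ∃ c : F, B = c • (1 : MM) := by
  have e := fun v i j => congrFun (congrFun (h (pick v)) i) j
  have ex := e (.inl ())
  have ea := e (.inr (.inl 1)); have eb := e (.inr (.inr 1)); have ec := e (.inr (.inl 0))
  have x01 := ex (.inl 0) (.inl 1); have x03 := ex (.inl 0) (.inr 1)
  have x10 := ex (.inl 1) (.inl 0); have x12 := ex (.inl 1) (.inr 0)
  have x21 := ex (.inr 0) (.inl 1); have x23 := ex (.inr 0) (.inr 1)
  have x30 := ex (.inr 1) (.inl 0); have x32 := ex (.inr 1) (.inr 0)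
  have a01 := ea (.inl 0) (.inl 1); have a03 := ea (.inl 0) (.inr 1)
  have a21 := ea (.inr 0) (.inl 1); have a32 := ea (.inr 1) (.inr 0)
  have b03 := eb (.inl 0) (.inr 1); have b21 := eb (.inr 0) (.inl 1)
  have c03 := ec (.inl 0) (.inr 1)
  simp [TT, Matrix.mul_apply, Fintype.sum_sum_type, Fin.sum_univ_two] at x01 x03 x10 x12 x21 x23 x30 x32 a01 a03 a21 a32 b03 b21 c03
  refine ⟨B (.inl 0) (.inl 0), ?_⟩
  ext i j
  rcases i with i | i <;> rcases j with j | j <;> fin_cases i <;> fin_cases j <;> simp [Matrix.one_apply] <;> grind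

/-- Nothing anticommutes with the five-space. -/
theorem zero_of_anticommute (h2 : (2 : F) ≠ 0) {B : MM} (h : ∀ v, B * TT v = -(TT v * B)) : B = 0 := by
  have e := fun v i j => congrFun (congrFun (h (pick v)) i) j
  have ex := e (.inl ())
  have ea := e (.inr (.inl 1)); have eb := e (.inr (.inr 1)); have ec := e (.inr (.inl 0)); have ed := e (.inr (.inr 0))
  have x00 := ex (.inl 0) (.inl 0); have x02 := ex (.inl 0) (.inr 0)
  have x11 := ex (.inl 1) (.inl 1); have x13 := ex (.inl 1) (.inr 1)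
  have x20 := ex (.inr 0) (.inl 0); have x22 := ex (.inr 0) (.inr 0)
  have x31 := ex (.inr 1) (.inl 1); have x33 := ex (.inr 1) (.inr 1)
  have a00 := ea (.inl 0) (.inl 0); have a02 := ea (.inl 0) (.inr 0); have a22 := ea (.inr 0) (.inr 0)
  have a31 := ea (.inr 1) (.inl 1)
  have b00 := eb (.inl 0) (.inl 0); have b33 := eb (.inr 1) (.inr 1)
  have c00 := ec (.inl 0) (.inl 0); have d00 := ed (.inl 0) (.inl 0)
  simp [TT, Matrix.mul_apply, Fintype.sum_sum_type, Fin.sum_univ_two] at x00 x02 x11 x13 x20 x22 x31 x33 a00 a02 a22 a31 b00 b33 c00 d00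
  ext i j
  rcases i with i | i <;> rcases j with j | j <;> fin_cases i <;> fin_cases j <;> simp <;> grind

theorem sp4_cancel (g : Sp4) : (g : MM) * ((g⁻¹ : Sp4) : MM) = 1 := congrArg Subtype.val (mul_inv_cancel g)

theorem sp4_cancel' (g : Sp4) : ((g⁻¹ : Sp4) : MM) * (g : MM) = 1 := congrArg Subtype.val (inv_mul_cancel g)

theorem sp4_transpose_J (g : Sp4) : (g : MM)ᵀ * J4 * (g : MM) = J4 := by
  have := SymplecticGroup.mem_iff.1 (SymplecticGroup.transpose_mem g.2)
  rwa [Matrix.transpose_transpose] at this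

/-- Conjugation by a symplectic matrix. -/
def conjAct (g : Sp4) : MM →ₗ[F] MM where
  toFun A := (g : MM) * A * ((g⁻¹ : Sp4) : MM)
  map_add' A B := by rw [mul_add, add_mul]
  map_smul' c A := by rw [mul_smul_comm, smul_mul_assoc]; rfl

theorem embeddedAct (h2 : (2 : F) ≠ 0) :
    EmbeddedAct Q5 (TT (F := F)) (fun g : Sp4 => conjAct g) where
  inj := TT_injective
  map_one := LinearMap.ext fun A => by simp [conjAct]
  map_mul g h := LinearMap.ext fun A => by simp [conjAct, Matrix.mul_assoc]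
  stable g v := by
    refine exists_TT h2 ?_ ?_
    · have hg := sp4_transpose_J g
      have hgi := sp4_transpose_J g⁻¹
      have e1 : ((g⁻¹ : Sp4) : MM)ᵀ * J4 = J4 * (g : MM) := by
        calc ((g⁻¹ : Sp4) : MM)ᵀ * J4 = ((g⁻¹ : Sp4) : MM)ᵀ * J4 * (((g⁻¹ : Sp4) : MM) * (g : MM)) := by
              rw [sp4_cancel', mul_one]
          _ = J4 * (g : MM) := by rw [← mul_assoc, hgi]
      have e2 : (g : MM)ᵀ * J4 = J4 * ((g⁻¹ : Sp4) : MM) := by
        calc (g : MM)ᵀ * J4 = (g : MM)ᵀ * J4 * ((g : MM) * ((g⁻¹ : Sp4) : MM)) := by rw [sp4_cancel, mul_one]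
          _ = J4 * ((g⁻¹ : Sp4) : MM) := by rw [← mul_assoc, hg]
      show ((g : MM) * TT v * ((g⁻¹ : Sp4) : MM))ᵀ * J4 = J4 * ((g : MM) * TT v * ((g⁻¹ : Sp4) : MM))
      rw [Matrix.transpose_mul, Matrix.transpose_mul]
      simp only [mul_assoc]
      rw [e2, ← mul_assoc (TT v)ᵀ, TT_transpose, ← mul_assoc, ← mul_assoc, e1]
      simp only [mul_assoc]
    · show ((g : MM) * TT v * ((g⁻¹ : Sp4) : MM)).trace = 0
      rw [Matrix.trace_mul_cycle, sp4_cancel', one_mul, TT_trace]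
  isom g v w h := by
    have h1 := congrArg (fun A => A * A) h
    simp only [conjAct, LinearMap.coe_mk, AddHom.coe_mk] at h1
    rw [TT_mul_self, show (g : MM) * TT v * ((g⁻¹ : Sp4) : MM) * ((g : MM) * TT v * ((g⁻¹ : Sp4) : MM)) =
      (g : MM) * (TT v * ((((g⁻¹ : Sp4) : MM) * (g : MM)) * TT v)) * ((g⁻¹ : Sp4) : MM) by
        simp only [mul_assoc], sp4_cancel', one_mul, TT_mul_self, Matrix.mul_smul, mul_one, Matrix.smul_mul,
      sp4_cancel] at h1
    simpa [Matrix.one_apply] using congrFun (congrFun h1 (.inl 0)) (.inl 0)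

/-- The homomorphism onto `Ω₅`. -/
noncomputable def toO5 (h2 : (2 : F) ≠ 0) : Matrix.symplecticGroup (Fin 2) F →* orth (matQuad (oddMat 2 F)) :=
  (embeddedAct h2).toOrth

theorem TT_toO5 (h2 : (2 : F) ≠ 0) (g : Sp4) (v : V5) :
    TT ((toO5 h2 g : V5 ≃ₗ[F] V5) v) = (g : MM) * TT v * ((g⁻¹ : Sp4) : MM) :=
  (embeddedAct h2).mk_fn g v

theorem toO5_ker (h2 : (2 : F) ≠ 0) {g : Sp4} (hg : g ∈ (toO5 h2).ker) :
    ∃ r : F, r * r = 1 ∧ (g : MM) = Matrix.diagonal fun _ => r := by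
  rw [toO5, EmbeddedAct.mem_ker] at hg
  obtain ⟨c, hc⟩ := scalar_of_commute h2 (B := (g : MM)) fun v => by
    have h := congrArg (fun A => A * (g : MM)) (hg v)
    simp only [conjAct, LinearMap.coe_mk, AddHom.coe_mk] at h
    rwa [mul_assoc, sp4_cancel', mul_one] at h
  refine ⟨c, ?_, by rw [hc, Matrix.smul_one_eq_diagonal]⟩
  have h := sp4_transpose_J g
  rw [hc] at h
  have h1 := congrFun (congrFun h (.inl 0)) (.inr 0)
  simp [Matrix.J, Matrix.smul_mul, Matrix.mul_smul] at h1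
  linear_combination h1

theorem range_toO5 [Finite F] (h2 : (2 : F) ≠ 0) (hodd : Odd (Nat.card F)) :
    (toO5 (F := F) h2).range = commutator (orth Q5) := by
  have hQ := nondeg_odd_two (F := F) h2
  have hR := reflGroup_eq_orth_of_two_ne hQ h2
  have h3 : 3 ≤ Nat.card F := by
    obtain ⟨k, hk⟩ := hodd
    have : 1 < Nat.card F := Finite.one_lt_card
    omega
  have hp : commutator Sp4 = ⊤ := sp_commutator_eq_top' (Or.inr (Or.inl ⟨by simp, h3⟩))
  haveI : Finite (orth Q5) := Finite.of_equiv _ (isomEquiv Q5).toEquiv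
  refine Subgroup.eq_of_le_of_card_ge (range_le_commutator_of_perfect _ hp) ?_
  set f := toO5 (F := F) h2
  have h1 : Nat.card Sp4 = Nat.card f.range * Nat.card f.ker := by
    rw [Subgroup.card_eq_card_quotient_mul_card_subgroup f.ker,
      Nat.card_congr (QuotientGroup.quotientKerEquivRange f).toEquiv]
  have hker : Nat.card f.ker ≤ Nat.gcd 2 (Nat.card F - 1) :=
    Klein.card_le_gcd_two (Sum.inl 0 : Fin 2 ⊕ Fin 2) (fun g : Sp4 => (g : MM)) Subtype.val_injective _
      fun g hg => toO5_ker h2 hg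
  have hcard : Nat.gcd 2 (Nat.card F - 1) * Nat.card (orth Q5) ≤
      Nat.card Sp4 * (commutator (orth Q5)).index := by
    rw [card_orth_eq, coe_matQuad_odd, card_isometry_odd h2 2, card_symplecticGroup,
      index_commutator_orth hQ (by simp) hR]
    simp
    exact le_of_eq (by ring)
  have hci := (commutator (orth Q5)).card_mul_index
  have hk : 0 < Nat.card f.ker := Nat.card_pos
  have hi : 0 < (commutator (orth Q5)).index := Nat.pos_of_ne_zero Subgroup.index_ne_zero_of_finite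
  have h4 : Nat.card f.ker * (Nat.card (commutator (orth Q5)) * (commutator (orth Q5)).index) ≤
      (Nat.card f.range * Nat.card f.ker) * (commutator (orth Q5)).index := by
    rw [hci, ← h1]
    exact (Nat.mul_le_mul_right _ hker).trans hcard
  rw [← mul_assoc] at h4
  exact Nat.le_of_mul_le_mul_left (by
    have := Nat.le_of_mul_le_mul_right h4 hi
    rwa [mul_comm (Nat.card f.range)] at this) hk

/-- A maximal subgroup pulls back along an epimorphism. -/
theorem isMaximalIn_pullback {A G K : Type*} [Group A] [Group G] [Group K] (j : A →* G) (ψ : A →* K)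
    {I S : Subgroup G} {Ω T : Subgroup K} (hI : j.range = I) (hΩ : ψ.range = Ω)
    (hST : ∀ x, j x ∈ S ↔ ψ x ∈ T) (hmax : Cfsg.Geo.IsMaximalIn Ω (T ⊓ Ω)) :
    Cfsg.Geo.IsMaximalIn I (S ⊓ I) := by
  subst hI hΩ
  refine ⟨lt_of_le_of_ne inf_le_right fun h => hmax.1.ne (le_antisymm inf_le_right ?_), fun M hSM hMI => ?_⟩
  · rintro _ ⟨x, rfl⟩
    have : j x ∈ S ⊓ j.range := by rw [h]; exact ⟨x, rfl⟩
    exact ⟨(hST x).1 this.1, x, rfl⟩
  · have hle : T ⊓ ψ.range ≤ (M.comap j).map ψ := by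
      rintro _ ⟨hT, x, rfl⟩
      exact ⟨x, hSM ⟨(hST x).2 hT, x, rfl⟩, rfl⟩
    have hge : (M.comap j).map ψ ≤ ψ.range := by
      rintro _ ⟨x, -, rfl⟩; exact ⟨x, rfl⟩
    rcases hmax.2 _ hle hge with h | h
    · refine Or.inl (le_antisymm (fun m hm => ?_) hSM)
      obtain ⟨x, rfl⟩ := hMI hm
      exact ⟨(hST x).2 ((h.le ⟨x, hm, rfl⟩).1), x, rfl⟩
    · refine Or.inr (le_antisymm hMI ?_)
      rintro _ ⟨x, rfl⟩
      obtain ⟨y, hy, hyx⟩ := h.ge (⟨x, rfl⟩ : ψ x ∈ ψ.range)
      have h1 : j (x * y⁻¹) ∈ M := hSM ⟨(hST _).2 (by rw [map_mul, map_inv, hyx, mul_inv_cancel]; exact one_mem T), _, rfl⟩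
      have h2 := mul_mem h1 hy
      rwa [← map_mul, inv_mul_cancel_right] at h2

/-- Transfer of maximality from `Ω₅` to `Sp₄`. -/
theorem maximal_of_omega [Finite F] (h2 : (2 : F) ≠ 0) (hodd : Odd (Nat.card F)) {S : Subgroup GG}
    {T : Subgroup (Matrix.GeneralLinearGroup (Unit ⊕ (Fin 2 ⊕ Fin 2)) F)}
    (hST : ∀ x : Sp4, CfsgLib.PrimeOrderSp.spToGL F 2 x ∈ S ↔ orthToGL Q5 (toO5 h2 x) ∈ T)
    (hmax : Cfsg.Geo.IsMaximalIn (Cfsg.Geo.omegaGL ⇑Q5) (T ⊓ Cfsg.Geo.omegaGL ⇑Q5)) :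
    Cfsg.Geo.IsMaximalIn (Cfsg.spGL 2 F) (S ⊓ Cfsg.spGL 2 F) := by
  refine isMaximalIn_pullback (CfsgLib.PrimeOrderSp.spToGL F 2) ((orthToGL Q5).comp (toO5 h2)) ?_ ?_ hST hmax
  · ext g
    exact ⟨fun ⟨x, hx⟩ => hx ▸ CfsgLib.PrimeOrderSp.spToGL_mem x, fun hg => CfsgLib.PrimeOrderSp.exists_spToGL hg⟩
  · rw [MonoidHom.range_comp, range_toO5 h2 hodd, omegaGL_eq_map]

end CfsgLib.Sp4Odd
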