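import Cfsg.Agent.Lib.Sp4Odd.Root
import Cfsg.Agent.Lib.AschbacherOrth.Field

/-!
Quadratic subfields and pairs of complementary isotropic planes as square roots of scalars.
-/

set_option autoImplicit false
set_option linter.unusedSectionVars false

namespace CfsgLib.Sp4Odd

open QuadraticMap CfsgLib.Geometry CfsgLib.Classical Matrix CfsgLib.Maximal

variable {F : Type*} [Field F]

local notation "MM" => Matrix (Fin 2 ⊕ Fin 2) (Fin 2 ⊕ Fin 2) F
local notation "GG" => Matrix.GeneralLinearGroup (Fin 2 ⊕ Fin 2) F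
local notation "J4" => Matrix.J (Fin 2) F
local notation "sf" => Cfsg.sympForm 2 F
local notation "VV" => (Fin 2 ⊕ Fin 2 → F)

theorem span_of_nonscalar {K : Subalgebra F MM} (hK : Cfsg.Geo.IsFieldSubalgebra 2 K) {y : MM} (hy : y ∈ K)
    (hns : ∀ c : F, y ≠ c • (1 : MM)) : ∀ k ∈ K, ∃ a b : F, k = a • (1 : MM) + b • y := by
  have hli : LinearIndependent F ![(1 : MM), y] :=
    (LinearIndependent.pair_iff' one_ne_zero).2 fun t h => hns t h.symm
  have he : Submodule.span F ({1, y} : Set MM) = Subalgebra.toSubmodule K := by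
    refine Submodule.eq_of_le_of_finrank_le (Submodule.span_le.2 ?_) ?_
    · rintro _ (rfl | rfl)
      exacts [K.one_mem, hy]
    · have h1 := finrank_span_eq_card hli
      rw [Matrix.range_cons_cons_empty, Fintype.card_fin] at h1
      rw [h1]; exact hK.finrank_eq.le
  intro k hk
  obtain ⟨a, b, h⟩ := Submodule.mem_span_pair.1 (he.ge hk)
  exact ⟨a, b, h.symm⟩

theorem exists_nonscalar {K : Subalgebra F MM} (hK : Cfsg.Geo.IsFieldSubalgebra 2 K) :
    ∃ x ∈ K, ∀ c : F, x ≠ c • (1 : MM) := by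
  by_contra hc
  push Not at hc
  have hle : Subalgebra.toSubmodule K ≤ Submodule.span F {(1 : MM)} := fun k hk => by
    obtain ⟨c, rfl⟩ := hc k hk
    exact Submodule.smul_mem _ _ (Submodule.mem_span_singleton_self _)
  have h1 := Submodule.finrank_mono hle
  rw [finrank_span_singleton (one_ne_zero (α := MM))] at h1
  have := hK.finrank_eq
  change Module.finrank F (Subalgebra.toSubmodule K) = 2 at this
  omega

theorem normalizer_iff (h2 : (2 : F) ≠ 0) {K : Subalgebra F MM} {y : MM} (hy : y ∈ K) {d : F}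
    (hsq : y * y = d • (1 : MM)) (hd : d ≠ 0) (hns : ∀ c : F, y ≠ c • (1 : MM))
    (hspan : ∀ k ∈ K, ∃ a b : F, k = a • (1 : MM) + b • y) (g : GG) :
    g ∈ Cfsg.Geo.subalgebraNormalizer K ↔ NormPM y g := by
  have gg : ((g⁻¹ : GG) : MM) * (g : MM) = 1 := by rw [← Units.val_mul, inv_mul_cancel, Units.val_one]
  have gg' : (g : MM) * ((g⁻¹ : GG) : MM) = 1 := by rw [← Units.val_mul, mul_inv_cancel, Units.val_one]
  constructor
  · intro hg
    obtain ⟨a, b, hab⟩ := hspan _ ((hg y).1 hy)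
    have hgy : (g : MM) * y = (a • 1 + b • y) * (g : MM) := by
      rw [← hab, mul_assoc, gg, mul_one]
    have h1 : (g : MM) * y * ((g⁻¹ : GG) : MM) * ((g : MM) * y * ((g⁻¹ : GG) : MM)) = d • (1 : MM) := by
      simp only [mul_assoc]
      rw [← mul_assoc _ (g : MM), gg, one_mul, ← mul_assoc y, hsq, smul_mul_assoc, one_mul, mul_smul_comm, gg']
    rw [hab] at h1
    simp only [mul_add, add_mul, smul_mul_assoc, mul_smul_comm, one_mul, mul_one, hsq, smul_smul] at h1
    have h3 : (a * b * 2) • y = (d - a * a - b * b * d) • (1 : MM) := by linear_combination (norm := module) h1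
    have hab0 : a * b = 0 := by
      by_contra hne
      refine hns ((a * b * 2)⁻¹ * (d - a * a - b * b * d)) ?_
      rw [mul_smul, ← h3, smul_smul, inv_mul_cancel₀ (mul_ne_zero hne h2), one_smul]
    rw [hab0, zero_mul, zero_smul, eq_comm, smul_eq_zero, or_iff_left one_ne_zero] at h3
    rcases mul_eq_zero.1 hab0 with rfl | rfl
    · have hb : b * b = 1 := mul_right_cancel₀ hd (by linear_combination -h3)
      rw [zero_smul, zero_add, smul_mul_assoc] at hgy
      rcases mul_self_eq_one_iff.1 hb with rfl | rfl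
      · exact Or.inl (by rw [hgy, one_smul])
      · exact Or.inr (by rw [hgy, neg_one_smul])
    · exfalso
      rw [zero_smul, add_zero, smul_mul_assoc, one_mul] at hgy
      refine hns a ?_
      have := congrArg (fun A => ((g⁻¹ : GG) : MM) * A) hgy
      simpa [← mul_assoc, gg, mul_smul_comm] using this
  · intro h k
    constructor
    · intro hk
      obtain ⟨a, b, rfl⟩ := hspan k hk
      rw [mul_add, add_mul, mul_smul_comm, smul_mul_assoc, mul_one, gg', mul_smul_comm, smul_mul_assoc]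
      refine K.add_mem (K.smul_mem K.one_mem a) (K.smul_mem ?_ b)
      rcases h with h | h <;> rw [h]
      · rw [mul_assoc, gg', mul_one]; exact hy
      · rw [neg_mul, mul_assoc, gg', mul_one]; exact K.neg_mem hy
    · intro hk
      obtain ⟨a, b, hab⟩ := hspan _ hk
      have e : k = ((g⁻¹ : GG) : MM) * (a • 1 + b • y) * (g : MM) := by
        rw [← hab]; simp only [← mul_assoc, gg, one_mul]; rw [mul_assoc, gg, mul_one]
      rw [e, mul_add, add_mul, mul_smul_comm, smul_mul_assoc, mul_one, gg, mul_smul_comm, smul_mul_assoc]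
      refine K.add_mem (K.smul_mem K.one_mem a) (K.smul_mem ?_ b)
      rcases h with h | h
      · rw [mul_assoc, ← h, ← mul_assoc, gg, one_mul]; exact hy
      · have h' : y * (g : MM) = -((g : MM) * y) := by rw [h, neg_neg]
        rw [mul_assoc, h', mul_neg, ← mul_assoc, gg, one_mul]; exact K.neg_mem hy

/-- The normaliser of a subfield of self-adjoint elements. -/
theorem selfAdj_field_maximal [Finite F] (h2 : (2 : F) ≠ 0) (hodd : Odd (Nat.card F)) {K : Subalgebra F MM}
    (hK : Cfsg.Geo.IsFieldSubalgebra 2 K) (hsa : Cfsg.Geo.IsSelfAdjointFor sf K) :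
    Cfsg.Geo.IsMaximalIn (Cfsg.spGL 2 F) (Cfsg.Geo.subalgebraNormalizer K ⊓ Cfsg.spGL 2 F) := by
  obtain ⟨x, hx, hxns⟩ := exists_nonscalar hK
  obtain ⟨δ, p, hxx⟩ := span_of_nonscalar hK hx hxns _ (K.mul_mem hx hx)
  set y := x - (p / 2) • (1 : MM)
  have hy : y ∈ K := K.sub_mem hx (K.smul_mem K.one_mem _)
  have hns : ∀ c : F, y ≠ c • (1 : MM) := fun c h => hxns (c + p / 2) (by
    rw [add_smul, ← h]; simp [y])
  set d := δ + p / 2 * (p / 2)
  have hsq : y * y = d • (1 : MM) := by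
    simp only [y, d, mul_sub, sub_mul, smul_mul_assoc, mul_smul_comm, one_mul, mul_one, hxx, smul_smul]
    match_scalars <;> field_simp <;> ring
  have hd : d ≠ 0 := fun h => by
    rw [h, zero_smul] at hsq
    obtain ⟨y', -, hyy⟩ := hK.inv y hy (fun h0 => hns 0 (by rw [h0, zero_smul]))
    have h1 := congrArg (fun A => y * A) hyy
    simp only [← mul_assoc, hsq, zero_mul, mul_one] at h1
    exact hns 0 (by rw [zero_smul, ← h1])
  have hyT : yᵀ * J4 = J4 * y := adjoint_matrix (hsa y hy)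
  have h4 : (4 : F) ≠ 0 := by rw [show (4 : F) = 2 * 2 by norm_num]; exact mul_ne_zero h2 h2
  set c := y.trace / 4
  obtain ⟨v, hv⟩ := exists_TT h2 (A := y - c • 1) (by
      rw [Matrix.transpose_sub, Matrix.transpose_smul, Matrix.transpose_one, Matrix.sub_mul, Matrix.mul_sub, hyT,
        Matrix.smul_mul, Matrix.mul_smul, one_mul, mul_one]) (by
      rw [Matrix.trace_sub, Matrix.trace_smul, Matrix.trace_one]
      simp [c]
      field_simp
      ring)
  have h1 := TT_mul_self v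
  rw [hv] at h1
  simp only [mul_sub, sub_mul, smul_mul_assoc, mul_smul_comm, one_mul, mul_one, hsq, smul_smul] at h1
  have hc : c = 0 := by
    by_contra hne
    refine hns ((2 * c)⁻¹ * (d + c * c - matQuad (oddMat 2 F) v)) ?_
    rw [mul_smul, eq_inv_smul_iff₀ (mul_ne_zero h2 hne)]
    linear_combination (norm := module) -h1
  rw [hc, zero_smul, sub_zero] at hv
  have hQv : matQuad (oddMat 2 F) v ≠ 0 := fun h => by
    have h3 := TT_mul_self v
    rw [hv, hsq, h, zero_smul, smul_eq_zero, or_iff_left one_ne_zero] at h3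
    exact hd h3
  exact selfAdj_maximal h2 hodd hQv fun g _ => by
    rw [hv]; exact normalizer_iff h2 hy hsq hd hns (span_of_nonscalar hK hy hns) g

/-- The normaliser of a subfield closed under adjoints and not self-adjoint. -/
theorem unitary_field_maximal [Finite F] (h2 : (2 : F) ≠ 0) (hodd : Odd (Nat.card F)) (hq : 5 ≤ Nat.card F)
    {K : Subalgebra F MM} (hK : Cfsg.Geo.IsFieldSubalgebra 2 K) (hac : Cfsg.Geo.IsAdjointClosedFor sf K)
    (hnsa : ¬ Cfsg.Geo.IsSelfAdjointFor sf K) :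
    Cfsg.Geo.IsMaximalIn (Cfsg.spGL 2 F) (Cfsg.Geo.subalgebraNormalizer K ⊓ Cfsg.spGL 2 F) := by
  obtain ⟨x, hx, u₀, v₀, hne⟩ : ∃ x, x ∈ K ∧ ∃ u₀ v₀, sf (x *ᵥ u₀) v₀ ≠ sf u₀ (x *ᵥ v₀) := by
    by_contra hc
    push Not at hc
    exact hnsa hc
  obtain ⟨x', hx', hxx'⟩ := hac x hx
  set y := x - x'
  have hy : y ∈ K := K.sub_mem hx hx'
  have e : ∀ u v, sf (x' *ᵥ u) v = sf u (x *ᵥ v) := fun u v => by
    rw [sf_skew (x' *ᵥ u) v, ← hxx', ← sf_skew u (x *ᵥ v)]
  have hskew : yᵀ * J4 = -(J4 * y) := by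
    rw [Matrix.transpose_sub, Matrix.sub_mul, adjoint_matrix hxx', adjoint_matrix e, Matrix.mul_sub]
    abel
  have hy0 : y ≠ 0 := fun h => hne (by rw [hxx', ← sub_eq_zero.1 h])
  have hns : ∀ c : F, y ≠ c • (1 : MM) := by
    intro c hc
    have h := hskew
    rw [hc, Matrix.transpose_smul, Matrix.transpose_one, Matrix.smul_mul, one_mul, Matrix.mul_smul, mul_one] at h
    have h3 := congrFun (congrFun h (.inl 0)) (.inr 0)
    simp [Matrix.J] at h3
    have : c = 0 := (mul_eq_zero.1 (show (2 : F) * c = 0 by linear_combination -h3)).resolve_left h2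
    exact hy0 (by rw [hc, this, zero_smul])
  obtain ⟨d, β, hyy⟩ := span_of_nonscalar hK hy hns _ (K.mul_mem hy hy)
  have hβ : β = 0 := by
    have h1 : (y * y)ᵀ * J4 = J4 * (y * y) := by
      rw [Matrix.transpose_mul, mul_assoc, hskew, mul_neg, ← mul_assoc, hskew, neg_mul, neg_neg, mul_assoc]
    rw [hyy, Matrix.transpose_add, Matrix.transpose_smul, Matrix.transpose_smul, Matrix.transpose_one, add_mul,
      Matrix.smul_mul, Matrix.smul_mul, one_mul, hskew, mul_add, Matrix.mul_smul, Matrix.mul_smul, mul_one] at h1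
    have h3 : (2 * β) • (J4 * y) = 0 := by linear_combination (norm := module) -h1
    refine (mul_eq_zero.1 ((smul_eq_zero.1 h3).resolve_right fun h => hy0 ?_)).resolve_left h2
    have h5 := congrArg (fun A => J4 * A) h
    simpa [← mul_assoc, Matrix.J_squared] using h5
  rw [hβ, zero_smul, add_zero] at hyy
  have hd : d ≠ 0 := fun h => by
    rw [h, zero_smul] at hyy
    obtain ⟨y', -, hy'⟩ := hK.inv y hy hy0
    have h1 := congrArg (fun A => y * A) hy'
    simp only [← mul_assoc, hyy, zero_mul, mul_one] at h1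
    exact hy0 h1.symm
  exact skew_maximal h2 hodd hq hd hyy hskew fun g _ =>
    normalizer_iff h2 hy hyy hd hns (span_of_nonscalar hK hy hns) g

/-- The stabiliser of a pair of complementary isotropic planes. -/
theorem pair_maximal [Finite F] (h2 : (2 : F) ≠ 0) (hodd : Odd (Nat.card F)) (hq : 5 ≤ Nat.card F)
    {D : Fin 2 → Submodule F VV} (hD : Cfsg.Geo.IsMDecomposition 2 D)
    (hTI : ∀ i, Cfsg.Geo.IsTotallySingularFor sf (D i)) :
    Cfsg.Geo.IsMaximalIn (Cfsg.spGL 2 F) (Cfsg.Geo.decompositionStabilizer D ⊓ Cfsg.spGL 2 F) := by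
  have hc : IsCompl (D 0) (D 1) := by
    refine ⟨hD.indep.pairwiseDisjoint (by decide), codisjoint_iff.2 ?_⟩
    rw [eq_top_iff, ← hD.iSup_eq_top]
    refine iSup_le fun i => ?_
    fin_cases i
    exacts [le_sup_left, le_sup_right]
  let L : VV →ₗ[F] VV := (2 : F) • ((D 0).subtype.comp ((D 0).projectionOnto (D 1) hc)) - LinearMap.id
  set θ : MM := LinearMap.toMatrix' L
  have hθ : ∀ v, θ *ᵥ v = L v := fun v => by simp [θ, LinearMap.toMatrix'_mulVec]
  have h0 : ∀ v ∈ D 0, θ *ᵥ v = v := fun v hv => by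
    rw [hθ]; simp [L, Submodule.projectionOnto_apply_left hc ⟨v, hv⟩]; module
  have h1 : ∀ v ∈ D 1, θ *ᵥ v = -v := fun v hv => by
    rw [hθ]; simp [L, (Submodule.projectionOnto_apply_eq_zero_iff hc).2 hv]
  have hdec : ∀ v : VV, ∃ a ∈ D 0, ∃ b ∈ D 1, a + b = v := fun v =>
    Submodule.mem_sup.1 (hc.sup_eq_top ▸ Submodule.mem_top : v ∈ D 0 ⊔ D 1)
  have hsq : θ * θ = (1 : F) • (1 : MM) := by
    refine CfsgLib.Geometry.matrix_eq_of_mulVec fun v => ?_
    obtain ⟨a, ha, b, hb, rfl⟩ := hdec v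
    rw [one_smul, Matrix.one_mulVec, ← Matrix.mulVec_mulVec, Matrix.mulVec_add θ a b, h0 a ha, h1 b hb,
      Matrix.mulVec_add, h0 a ha, Matrix.mulVec_neg, h1 b hb, neg_neg]
  have hskew : θᵀ * J4 = -(J4 * θ) := by
    rw [← Matrix.mul_neg]
    refine adjoint_matrix fun u v => ?_
    obtain ⟨a, ha, b, hb, rfl⟩ := hdec u
    obtain ⟨a', ha', b', hb', rfl⟩ := hdec v
    rw [Matrix.neg_mulVec, Matrix.mulVec_add θ a b, Matrix.mulVec_add θ a' b', h0 a ha, h1 b hb, h0 a' ha', h1 b' hb',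
      ← neg_one_smul F b, ← neg_one_smul F b', ← neg_one_smul F (a' + (-1 : F) • b')]
    simp only [sf_add_left, sf_add_right, sf_smul_left, sf_smul_right, hTI 0 a ha a' ha', hTI 1 b hb b' hb']
    ring
  refine skew_maximal h2 hodd hq one_ne_zero hsq hskew fun g _ => ⟨?_, ?_⟩
  · rintro ⟨σ, hσ⟩
    have hm : ∀ i, ∀ v ∈ D i, (g : MM) *ᵥ v ∈ D (σ i) := fun i v hv => by
      rw [← hσ i]; exact ⟨v, hv, by simp [Matrix.toLin'_apply]⟩
    have hext : ∀ {A B : MM}, (∀ v ∈ D 0, A *ᵥ v = B *ᵥ v) → (∀ v ∈ D 1, A *ᵥ v = B *ᵥ v) → A = B :=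
      fun {A B} e0 e1 => CfsgLib.Geometry.matrix_eq_of_mulVec fun v => by
        obtain ⟨a, ha, b, hb, rfl⟩ := hdec v
        rw [Matrix.mulVec_add, Matrix.mulVec_add, e0 a ha, e1 b hb]
    have hne : σ 0 ≠ σ 1 := σ.injective.ne (by decide)
    rcases (by omega : σ 0 = 0 ∧ σ 1 = 1 ∨ σ 0 = 1 ∧ σ 1 = 0) with ⟨e0, e1⟩ | ⟨e0, e1⟩
    · refine Or.inl (hext (fun v hv => ?_) fun v hv => ?_)
      · rw [← Matrix.mulVec_mulVec, ← Matrix.mulVec_mulVec, h0 v hv, h0 _ (e0 ▸ hm 0 v hv)]
      · rw [← Matrix.mulVec_mulVec, ← Matrix.mulVec_mulVec, h1 v hv, h1 _ (e1 ▸ hm 1 v hv), Matrix.mulVec_neg]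
    · refine Or.inr (hext (fun v hv => ?_) fun v hv => ?_)
      · rw [Matrix.neg_mulVec, ← Matrix.mulVec_mulVec, ← Matrix.mulVec_mulVec, h0 v hv, h1 _ (e0 ▸ hm 0 v hv), neg_neg]
      · rw [Matrix.neg_mulVec, ← Matrix.mulVec_mulVec, ← Matrix.mulVec_mulVec, h1 v hv, h0 _ (e1 ▸ hm 1 v hv),
          Matrix.mulVec_neg]
  · intro hg
    have hz : ∀ v : VV, v = -v → v = 0 := fun v hv => by
      have : (2 : F) • v = 0 := by rw [two_smul]; exact add_eq_zero_iff_eq_neg.2 hv
      exact (smul_eq_zero.1 this).resolve_left h2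
    have mem0 : ∀ v, θ *ᵥ v = v → v ∈ D 0 := fun v hv => by
      obtain ⟨a, ha, b, hb, rfl⟩ := hdec v
      rw [Matrix.mulVec_add, h0 a ha, h1 b hb] at hv
      rw [hz b (add_left_cancel hv).symm, add_zero]; exact ha
    have mem1 : ∀ v, θ *ᵥ v = -v → v ∈ D 1 := fun v hv => by
      obtain ⟨a, ha, b, hb, rfl⟩ := hdec v
      rw [Matrix.mulVec_add, h0 a ha, h1 b hb, neg_add] at hv
      rw [hz a (add_right_cancel hv), zero_add]; exact hb
    have hinj : Function.Injective (Matrix.toLin' (g : MM)) := fun a b e => by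
      simpa [Matrix.toLin'_apply] using congrArg (fun w => ((g⁻¹ : GG) : MM) *ᵥ w) e
    have hmap : ∀ i j, (∀ v ∈ D i, (g : MM) *ᵥ v ∈ D j) → (D i).map (Matrix.toLin' (g : MM)) = D j := by
      intro i j h
      refine Submodule.eq_of_le_of_finrank_le ?_ ?_
      · rintro _ ⟨v, hv, rfl⟩; rw [Matrix.toLin'_apply]; exact h v hv
      · rw [← (Submodule.equivMapOfInjective _ hinj (D i)).finrank_eq, hD.finrank_eq, hD.finrank_eq]
    rcases hg with hg | hg
    · refine ⟨1, fun i => hmap _ _ fun v hv => ?_⟩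
      have e := congrArg (fun A : MM => A *ᵥ v) hg
      simp only [← Matrix.mulVec_mulVec] at e
      fin_cases i
      · exact mem0 _ (by rw [← e, h0 v hv])
      · exact mem1 _ (by rw [← e, h1 v hv, Matrix.mulVec_neg])
    · refine ⟨Equiv.swap 0 1, fun i => hmap _ _ fun v hv => ?_⟩
      have e := congrArg (fun A : MM => A *ᵥ v) hg
      simp only [Matrix.neg_mulVec, ← Matrix.mulVec_mulVec] at e
      fin_cases i
      · exact mem1 _ (by rw [← neg_eq_iff_eq_neg.2 e, h0 v hv])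
      · exact mem0 _ (by rw [← neg_eq_iff_eq_neg.2 e, h1 v hv, Matrix.mulVec_neg, neg_neg])

end CfsgLib.Sp4Odd
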