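import Cfsg.Agent.Lib.OrthMax.Nondeg

/-!
The stabiliser of a non-degenerate three-space is maximal in `Ω₅(q)`, `q ≥ 5` odd.
-/

set_option autoImplicit false

namespace CfsgLib.Sp4Odd

open QuadraticMap CfsgLib.Geometry CfsgLib.OrthMax

variable {F V : Type*} [Field F] [AddCommGroup V] [Module F V] [FiniteDimensional F V]
variable {Q : QuadraticForm F V} {M : Subgroup (V ≃ₗ[F] V)} {U : Submodule F V}

/-- A Siegel element along its own point is trivial. -/
theorem siegel_line_eq_one {e w : V} (t : F) (he : Q e = 0) (hw : polar Q e w = 0) (h : w = t • e) :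
    siegel Q e w he hw = 1 := LinearEquiv.ext fun v => by
  subst h
  show siegel Q e (t • e) he hw v = v
  simp only [siegel_apply, CfsgLib.Geometry.map_smul', polar_smul_right', he]
  module

theorem siegel_congr_right {e w w' : V} (he : Q e = 0) (hw : polar Q e w = 0) (hw' : polar Q e w' = 0)
    (h : w = w') : siegel Q e w he hw = siegel Q e w' he hw' := by subst h; rfl

/-- An equivalence mapping a subspace into itself does so backwards too. -/
theorem maps_inv {g : V ≃ₗ[F] V} (h : ∀ u ∈ U, g u ∈ U) : ∀ u ∈ U, g.symm u ∈ U := by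
  have hmap : U.map g.toLinearMap = U := by
    refine Submodule.eq_of_le_of_finrank_le ?_ (LinearEquiv.finrank_map_eq g _).ge
    rintro _ ⟨u, hu, rfl⟩; exact h u hu
  intro u hu
  rw [← hmap] at hu
  obtain ⟨v, hv, rfl⟩ := hu
  simpa using hv

theorem SiegIn.neg {e w : V} (h : SiegIn Q M e w) (he : Q e = 0) (hw : polar Q e w = 0) :
    SiegIn Q M e (-w) := fun _ hw' => by
  have h1 : siegel Q e (-w) he hw' * siegel Q e w he hw = 1 := by
    rw [siegel_mul]
    exact siegel_line_eq_one 0 he _ (by rw [neg_add_cancel, zero_smul])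
  rw [eq_inv_of_mul_eq_one_left h1]
  exact inv_mem (h he hw)

variable [Finite F]

/-- A singular vector of a non-degenerate three-space in a standard basis. -/
theorem exists_basis3 (hQ : (polarBilin Q).Nondegenerate) (hU : U ⊓ polarPerp Q U = ⊥)
    (hd : Module.finrank F U = 3) {e : V} (heU : e ∈ U) (he00 : e ≠ 0) (he : Q e = 0) :
    ∃ f ∈ U, ∃ w ∈ U, Q f = 0 ∧ polar Q e f = 1 ∧ polar Q e w = 0 ∧ polar Q f w = 0 ∧ Q w ≠ 0 ∧
      ∀ u ∈ U, ∃ a b c : F, u = a • e + b • f + c • w := by
  obtain ⟨f, hfU, hf, hef⟩ := exists_partner_mem hQ hU heU he00 he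
  set K := U ⊓ polarPerp Q (Submodule.span F ({e, f} : Set V))
  have hK : K ≠ ⊥ := fun h => by
    have h1 := finrank_inf_perp_ge hQ U (Submodule.span F ({e, f} : Set V))
    have h2 := finrank_pair_le (F := F) e f
    change Module.finrank F U ≤ Module.finrank F K + _ at h1
    rw [h, finrank_bot] at h1
    omega
  obtain ⟨w, hw, hw0⟩ := Submodule.exists_mem_ne_zero_of_ne_bot hK
  have hew : polar Q e w = 0 := mem_polarPerp.1 hw.2 e (Submodule.subset_span (by simp))
  have hfw : polar Q f w = 0 := mem_polarPerp.1 hw.2 f (Submodule.subset_span (by simp))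
  have hwe : polar Q w e = 0 := by rw [polar_comm]; exact hew
  have hwf : polar Q w f = 0 := by rw [polar_comm]; exact hfw
  have hfe : polar Q f e = 1 := by rw [polar_comm]; exact hef
  have hli : LinearIndependent F ![e, f, w] := by
    rw [Fintype.linearIndependent_iff]
    intro c hc
    rw [Fin.sum_univ_three] at hc
    simp only [Matrix.cons_val_zero, Matrix.cons_val_one, Matrix.cons_val] at hc
    have h1 := congrArg (fun v => polar Q e v) hc
    have h2 := congrArg (fun v => polar Q f v) hc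
    simp only [polar_add_right, polar_smul_right', polar_self', he, hf, hef, hfe, hew, hfw,
      mul_zero, mul_one, zero_add, add_zero, polar_zero_right] at h1 h2
    rw [h1, h2, zero_smul, zero_smul, zero_add, zero_add] at hc
    have h3 := (smul_eq_zero.1 hc).resolve_right hw0
    intro i
    fin_cases i <;> assumption
  have hspan : Submodule.span F (Set.range ![e, f, w]) = U := by
    refine Submodule.eq_of_le_of_finrank_le (Submodule.span_le.2 ?_) ?_
    · rintro _ ⟨i, rfl⟩
      fin_cases i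
      exacts [heU, hfU, hw.1]
    · rw [finrank_span_eq_card hli, Fintype.card_fin, hd]
  have hall : ∀ u ∈ U, ∃ a b c : F, u = a • e + b • f + c • w := by
    intro u hu
    rw [← hspan] at hu
    obtain ⟨c, rfl⟩ := (Submodule.mem_span_range_iff_exists_fun F).1 hu
    exact ⟨c 0, c 1, c 2, by simp [Fin.sum_univ_three]⟩
  refine ⟨f, hfU, w, hw.1, hf, hef, hew, hfw, fun hQw => hw0 ?_, hall⟩
  refine (Submodule.mem_bot F).1 (hU.le ⟨hw.1, mem_polarPerp.2 fun u hu => ?_⟩)
  obtain ⟨a, b, c, rfl⟩ := hall u hu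
  simp [polar_add_left, polar_smul_left', polar_self', hew, hfw, hQw]


theorem full_of_moved3 (h2 : (2 : F) ≠ 0) (hQ : (polarBilin Q).Nondegenerate)
    (hn : Module.finrank F V = 5) (hU : U ⊓ polarPerp Q U = ⊥) (hd : Module.finrank F U = 3)
    (hq : 5 ≤ Nat.card F) (hst : ∀ g ∈ siegelGroup Q, (∀ u ∈ U, g u ∈ U) → g ∈ M) {e f c₀ : V}
    (heU : e ∈ U) (hfU : f ∈ U) (hc₀U : c₀ ∈ U) (he : Q e = 0) (hf : Q f = 0)
    (hef : polar Q e f = 1) (hec : polar Q e c₀ = 0) (hc₀ : Q c₀ ≠ 0) {y : V} (hyU : y ∉ U)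
    (hey : polar Q e y = 0) (hy : SiegIn Q M e y) : Full Q M e := by
  set W := polarPerp Q U
  have hR : reflGroup Q = orth Q := reflGroup_eq_orth hQ (Or.inl (by omega))
  have hUin : ∀ w ∈ U, SiegIn Q M e w := fun w hw h1 h2 =>
    hst _ (siegel_mem e w h1 h2) (siegel_maps heU hw h1 h2)
  have hWe : ∀ w ∈ W, polar Q e w = 0 := fun w hw => mem_polarPerp.1 hw e heU
  have hWf : ∀ w ∈ W, polar Q f w = 0 := fun w hw => mem_polarPerp.1 hw f hfU
  -- transport by an element of the stabiliser
  have comp : ∀ φ : orth Q, orthInvariant hQ hR φ = 1 → ∀ d : F, (φ : V ≃ₗ[F] V) e = d • e →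
      (∀ w ∈ W, (φ : V ≃ₗ[F] V) w ∈ W) → ∀ w ∈ W, SiegIn Q M e w →
      SiegIn Q M e (d • (φ : V ≃ₗ[F] V) w) := by
    intro φ hφ d hφe hφW w hw hin
    have hS := (mem_commutator_iff_siegelGroup hQ (by omega) _).1 ((mem_commutator_orth_iff hQ hR _).2 hφ)
    have hM : (φ : V ≃ₗ[F] V) ∈ M := hst _ hS (maps_of_maps_perp hQ φ.2 hφW)
    have h := hin.conj hM φ.2
    rw [hφe] at h
    intro h1 h2
    rw [← siegel_smul_left e ((φ : V ≃ₗ[F] V) w) d h1 (by rw [CfsgLib.Geometry.map_smul', he, mul_zero])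
      (by rw [polar_smul_left', hWe _ (hφW w hw), mul_zero]) h2]
    exact h _ _
  have scale : ∀ d : F, d ≠ 0 → ∃ g : orth Q, (∀ hd0 : d ≠ 0, orthInvariant hQ hR g = (sqMk hd0, 1)) ∧
      (g : V ≃ₗ[F] V) e = d • e ∧ ∀ v ∈ W, (g : V ≃ₗ[F] V) v = v := by
    intro d hd0
    obtain ⟨g, hgi, hg⟩ := exists_pair_scale hQ hR he hf hef hd0
    refine ⟨g, fun _ => hgi, ?_, fun v hv => ?_⟩
    · rw [hg, hef, polar_self', he]; module
    · rw [hg, polar_comm Q v f, polar_comm Q v e, hWe v hv, hWf v hv]; simp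
  have hsq : ∀ a : F, ∀ w ∈ W, SiegIn Q M e w → SiegIn Q M e ((a * a) • w) := by
    intro a w hw hin
    by_cases ha : a = 0
    · rw [ha, mul_zero, zero_smul]; exact hUin 0 U.zero_mem
    obtain ⟨g, hgi, hge, hgW⟩ := scale (a * a) (mul_ne_zero ha ha)
    have h := comp g (by rw [hgi (mul_ne_zero ha ha), (sqMk_eq_one_iff _).2 ⟨a, rfl⟩]; rfl) (a * a) hge
      (fun v hv => by rw [hgW v hv]; exact hv) w hw hin
    rwa [hgW w hw] at h
  let X : Submodule F V :=
    { carrier := {w | w ∈ W ∧ SiegIn Q M e w}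
      zero_mem' := ⟨W.zero_mem, hUin 0 U.zero_mem⟩
      add_mem' := fun {a b} ha hb => ⟨W.add_mem ha.1 hb.1,
        ha.2.add hb.2 he (hWe a ha.1) (hWe b hb.1)⟩
      smul_mem' := fun t w hw => ⟨W.smul_mem t hw.1, by
        have ht : t = (t + 1) / 2 * ((t + 1) / 2) + -((t - 1) / 2 * ((t - 1) / 2)) := by
          field_simp
          ring
        rw [ht, add_smul, neg_smul]
        have h0 := W.smul_mem ((t - 1) / 2 * ((t - 1) / 2)) hw.1
        exact (hsq _ w hw.1 hw.2).add (SiegIn.neg (hsq _ w hw.1 hw.2) he (hWe _ h0)) he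
          (hWe _ (W.smul_mem _ hw.1)) (hWe _ (W.neg_mem h0))⟩ }
  obtain ⟨a, ha, b, hb, hab⟩ := Submodule.mem_sup.1
    (sup_polarPerp_eq_top hQ hU ▸ Submodule.mem_top : y ∈ U ⊔ W)
  have hea : polar Q e a = 0 := by
    rw [← hab, polar_add_right, hWe b hb, add_zero] at hey; exact hey
  have hbX : b ∈ X := ⟨hb, by
    have h := (hUin (-a) (U.neg_mem ha)).add hy he (by rw [polar_neg_right, hea, neg_zero]) hey
    rwa [show -a + y = b by rw [← hab]; abel] at h⟩
  have hX0 : X ≠ ⊥ := fun h => by
    rw [h, Submodule.mem_bot] at hbX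
    rw [hbX, add_zero] at hab
    exact hyU (hab ▸ ha)
  have hrefl : ∀ c ∈ W, ∀ hc : Q c ≠ 0, ∀ x ∈ X, refl Q c hc x ∈ X := by
    intro c hc hc0 x hx
    have hd0 : Q c * Q c₀ ≠ 0 := mul_ne_zero hc0 hc₀
    obtain ⟨g, hgi, hge, hgW⟩ := scale _ hd0
    have hfix : ∀ v ∈ W, refl Q c₀ hc₀ v = v := fun v hv =>
      refl_eq_self Q c₀ hc₀ (by rw [polar_comm]; exact mem_polarPerp.1 hv c₀ hc₀U)
    have hcW : ∀ v ∈ W, refl Q c hc0 v ∈ W := fun v hv => by
      rw [refl_apply]; exact W.sub_mem hv (W.smul_mem _ hc)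
    set φ : orth Q := g * oRefl Q c hc0 * oRefl Q c₀ hc₀
    have hφv : ∀ v, (φ : V ≃ₗ[F] V) v = (g : V ≃ₗ[F] V) (refl Q c hc0 (refl Q c₀ hc₀ v)) := fun v => rfl
    have hφW : ∀ v ∈ W, (φ : V ≃ₗ[F] V) v = refl Q c hc0 v := fun v hv => by
      rw [hφv, hfix v hv, hgW _ (hcW v hv)]
    have hφi : orthInvariant hQ hR φ = 1 := by
      simp only [φ, map_mul, hgi hd0, orthInvariant_oRefl, Prod.mk_mul_mk, one_mul]
      rw [Prod.mk_eq_one, mul_assoc, ← sqMk_mul hc0 hc₀, sqClass_mul_self]
      exact ⟨rfl, by decide⟩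
    have h := comp φ hφi (Q c * Q c₀) (by
        rw [hφv, refl_eq_self Q c₀ hc₀ hec, refl_eq_self Q c hc0 (hWe c hc), hge])
      (fun v hv => by rw [hφW v hv]; exact hcW v hv) x hx.1 hx.2
    rw [hφW x hx.1] at h
    have h' : (Q c * Q c₀) • refl Q c hc0 x ∈ X := ⟨W.smul_mem _ (hcW x hx.1), h⟩
    have h'' := X.smul_mem (Q c * Q c₀)⁻¹ h'
    rwa [smul_smul, inv_mul_cancel₀ hd0, one_smul] at h''
  have hWX : W ≤ X := irreducible hQ (inf_polarPerp_perp hQ hU) (fun h => by omega) (fun x hx => hx.1)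
    hX0 hrefl (fun z hz w hw hz0 hzw x hx => by
      have hw' : ∃ t : F, w = t • z ∨ z = 0 := by
        by_cases hz00 : z = 0
        · exact ⟨0, Or.inr hz00⟩
        by_contra hc
        push Not at hc
        have hli : LinearIndependent F ![z, w] :=
          (LinearIndependent.pair_iff' hz00).2 fun t h => (hc t).1 h.symm
        have hsp : Submodule.span F (Set.range ![z, w]) = W := by
          refine Submodule.eq_of_le_of_finrank_le (Submodule.span_le.2 ?_) ?_
          · rintro _ ⟨i, rfl⟩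
            fin_cases i
            exacts [hz, hw]
          · rw [finrank_span_eq_card hli, Fintype.card_fin]
            have h1 : Module.finrank F W + Module.finrank F U = _ := finrank_polarPerp hQ U
            omega
        refine hz00 ((Submodule.mem_bot F).1 ((inf_polarPerp_perp hQ hU).le
          ⟨hz, mem_polarPerp.2 fun v hv => ?_⟩))
        rw [show polarPerp Q U = Submodule.span F (Set.range ![z, w]) from hsp.symm] at hv
        obtain ⟨k, rfl⟩ := (Submodule.mem_span_range_iff_exists_fun F).1 hv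
        simp [Fin.sum_univ_two, polar_add_left, polar_smul_left', polar_self', hz0,
          polar_comm Q w z, hzw]
      obtain ⟨t, rfl | rfl⟩ := hw'
      · rw [siegel_line_eq_one t hz0 hzw rfl]; exact hx
      · rw [siegel_zero_left]; exact hx)
  intro w he' hew
  obtain ⟨a', ha', b', hb', rfl⟩ := Submodule.mem_sup.1
    (sup_polarPerp_eq_top hQ hU ▸ Submodule.mem_top : w ∈ U ⊔ W)
  exact ((hUin a' ha').add (hWX hb').2 he
    (by rw [polar_add_right, hWe b' hb', add_zero] at hew; exact hew) (hWe b' hb')) he' hew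

/-- One root element of a point of `U` leading out of `U` gives the whole Siegel group. -/
theorem siegelGroup_le_of_siegIn3 (h2 : (2 : F) ≠ 0) (hQ : (polarBilin Q).Nondegenerate)
    (hn : Module.finrank F V = 5) (hU : U ⊓ polarPerp Q U = ⊥) (hd : Module.finrank F U = 3)
    (hq : 5 ≤ Nat.card F) (hst : ∀ g ∈ siegelGroup Q, (∀ u ∈ U, g u ∈ U) → g ∈ M) {e y : V}
    (heU : e ∈ U) (he00 : e ≠ 0) (he : Q e = 0) (hyU : y ∉ U) (hey : polar Q e y = 0)
    (hy : SiegIn Q M e y) : siegelGroup Q ≤ M := by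
  obtain ⟨f, hfU, w, hwU, hf, hef, hew, hfw, hQw, -⟩ := exists_basis3 hQ hU hd heU he00 he
  have hE : Full Q M e := full_of_moved3 h2 hQ hn hU hd hq hst heU hfU hwU he hf hef hew hQw hyU hey hy
  set h := siegel Q f w hf hfw
  have hh : h ∈ M := hst _ (siegel_mem f w hf hfw) (siegel_maps hfU hwU hf hfw)
  have hhe : polar Q e (h e) = -(Q w) := by
    simp only [h, siegel_apply, polar_add_right, polar_sub_right, polar_smul_right', polar_self', he, hef]
    ring
  have hhe0 : Q (h e) = 0 := by rw [mem_orth.1 (siegel_mem_orth Q f w hf hfw), he]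
  refine siegelGroup_le_of_full hQ he (f := (-(Q w))⁻¹ • h e) ?_ ?_ hE
    ((hE.image hh (siegel_mem_orth Q f w hf hfw)).smul hhe0 _)
  · rw [CfsgLib.Geometry.map_smul', hhe0, mul_zero]
  · rw [polar_smul_right', hhe, inv_mul_cancel₀ (neg_ne_zero.2 hQw)]

/-- A member moving `U` which keeps a singular point of `U` inside gives the whole Siegel group. -/
theorem siegelGroup_le_of_point3 (h2 : (2 : F) ≠ 0) (hQ : (polarBilin Q).Nondegenerate)
    (hn : Module.finrank F V = 5) (hU : U ⊓ polarPerp Q U = ⊥) (hd : Module.finrank F U = 3)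
    (hq : 5 ≤ Nat.card F) (hle : M ≤ siegelGroup Q)
    (hst : ∀ g ∈ siegelGroup Q, (∀ u ∈ U, g u ∈ U) → g ∈ M) {h : V ≃ₗ[F] V} (hh : h ∈ M)
    (hmv : ∃ u ∈ U, h u ∉ U) {e : V} (heU : e ∈ U) (he00 : e ≠ 0) (he0 : Q e = 0) (hheU : h e ∈ U) :
    siegelGroup Q ≤ M := by
  have hho := siegelGroup_le_orth (hle hh)
  have he0' : Q (h e) = 0 := by rw [mem_orth.1 hho, he0]
  have he00' : h e ≠ 0 := fun h' => he00 (h.map_eq_zero_iff.1 h')
  by_cases hv : ∃ v ∈ U, polar Q e v = 0 ∧ h v ∉ U
  · obtain ⟨v, hvU, hev, hhv⟩ := hv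
    exact siegelGroup_le_of_siegIn3 h2 hQ hn hU hd hq hst hheU he00' he0' hhv
      (by rw [orth_polar hho]; exact hev)
      (OrthMax.SiegIn.conj (fun h1 h2 => hst _ (siegel_mem e v h1 h2) (siegel_maps heU hvU h1 h2)) hh hho)
  push Not at hv
  obtain ⟨f, hfU, hf0, hef⟩ := exists_partner_mem hQ hU heU he00 he0
  obtain ⟨a, ha, w, hw, haw⟩ := Submodule.mem_sup.1
    (sup_polarPerp_eq_top hQ hU ▸ Submodule.mem_top : h f ∈ U ⊔ polarPerp Q U)
  have hew : polar Q (h e) w = 0 := mem_polarPerp.1 hw _ hheU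
  have hewn : polar Q (h e) (-w) = 0 := by rw [polar_neg_right, hew, neg_zero]
  set T := siegel Q (h e) (-w) he0' hewn
  have hk : ∀ u ∈ U, (T * h) u ∈ U := by
    intro u hu
    have hu' : u - polar Q e u • f ∈ U := U.sub_mem hu (U.smul_mem _ hfU)
    have h1 := hv _ hu' (by rw [polar_sub_right, polar_smul_right', hef, mul_one, sub_self])
    rw [show u = (u - polar Q e u • f) + polar Q e u • f by abel, map_add, map_smul]
    refine U.add_mem ?_ (U.smul_mem _ ?_)
    · rw [LinearEquiv.mul_apply,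
        siegel_eq_self Q (h e) (-w) he0' hewn
          (by rw [polar_comm, orth_polar hho, polar_sub_right, polar_smul_right', hef, mul_one, sub_self])
          (by rw [polar_neg_right, mem_polarPerp.1 hw _ h1, neg_zero])]
      exact h1
    · have hd : polar Q (h f) (h e) = 1 := by rw [orth_polar hho, polar_comm]; exact hef
      rw [LinearEquiv.mul_apply, siegel_apply, hd, one_smul]
      rw [show h f + -w = a by rw [← haw]; abel]
      exact U.sub_mem (U.sub_mem ha (U.smul_mem _ hheU)) (U.smul_mem _ hheU)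
  have hTM : T ∈ M := by
    have := mul_mem (hst _ (mul_mem (siegel_mem _ _ _ _) (hle hh)) hk) (inv_mem hh)
    rwa [mul_assoc, mul_inv_cancel, mul_one] at this
  refine siegelGroup_le_of_siegIn3 h2 hQ hn hU hd hq hst hheU he00' he0' (y := -w) (fun hwU => ?_) hewn
    fun _ _ => hTM
  obtain ⟨u, hu, hgu⟩ := hmv
  refine hgu ?_
  have hhf : h f ∈ U := by rw [← haw]; exact U.add_mem ha (U.neg_mem_iff.1 hwU)
  rw [show u = (u - polar Q e u • f) + polar Q e u • f by abel, map_add, map_smul]
  exact U.add_mem (hv _ (U.sub_mem hu (U.smul_mem _ hfU))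
    (by rw [polar_sub_right, polar_smul_right', hef, mul_one, sub_self])) (U.smul_mem _ hhf)

omit [Finite F] in
/-- A subspace of dimension three fixed by a long Siegel element contains its point. -/
theorem mem_of_siegel_fix (h2 : (2 : F) ≠ 0) (hQ : (polarBilin Q).Nondegenerate)
    (hn : Module.finrank F V = 5) {e w : V} (he00 : e ≠ 0) (he : Q e = 0) (hew : polar Q e w = 0)
    (hw : Q w ≠ 0) {B : Submodule F V} (hB : Module.finrank F B = 3)
    (h : ∀ y ∈ B, siegel Q e w he hew y ∈ B) : e ∈ B := by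
  set s := siegel Q e w he hew
  by_cases h1 : ∃ y ∈ B, polar Q y e ≠ 0
  · obtain ⟨y, hy, hye⟩ := h1
    set y₁ := s y - y
    have hy₁ : y₁ ∈ B := B.sub_mem (h y hy) hy
    have h3 := B.sub_mem (h y₁ hy₁) hy₁
    have e1 : polar Q y₁ e = 0 := by
      simp only [y₁, s, siegel_apply, polar_sub_left, polar_add_left, polar_smul_left', polar_self', he,
        polar_comm Q w e, hew]
      ring
    have e2 : polar Q y₁ w = polar Q y e * (2 * Q w) := by
      simp only [y₁, s, siegel_apply, polar_sub_left, polar_add_left, polar_smul_left', polar_self', hew]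
      ring
    have e3 : s y₁ - y₁ = -(polar Q y e * (2 * Q w)) • e := by
      simp only [s, siegel_apply, e1, e2]
      module
    rw [e3] at h3
    have hne : -(polar Q y e * (2 * Q w)) ≠ 0 := neg_ne_zero.2 (mul_ne_zero hye (mul_ne_zero h2 hw))
    have h4 := B.smul_mem (-(polar Q y e * (2 * Q w)))⁻¹ h3
    rwa [smul_smul, inv_mul_cancel₀ hne, one_smul] at h4
  push Not at h1
  by_cases h3 : ∃ y ∈ B, polar Q y w ≠ 0
  · obtain ⟨y, hy, hyw⟩ := h3
    have h4 := B.sub_mem (h y hy) hy
    have e3 : s y - y = -(polar Q y w) • e := by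
      simp only [s, siegel_apply, h1 y hy]
      module
    rw [e3] at h4
    have h5 := B.smul_mem (-(polar Q y w))⁻¹ h4
    rwa [smul_smul, inv_mul_cancel₀ (neg_ne_zero.2 hyw), one_smul] at h5
  push Not at h3
  set S := Submodule.span F (Set.range ![e, w])
  have hli : LinearIndependent F ![e, w] :=
    (LinearIndependent.pair_iff' he00).2 fun t ht => hw (by
      rw [← ht, CfsgLib.Geometry.map_smul', he, mul_zero])
  have hS : Module.finrank F S = 2 := by rw [finrank_span_eq_card hli, Fintype.card_fin]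
  have hperp : ∀ v, polar Q e v = 0 → polar Q w v = 0 → v ∈ polarPerp Q S := fun v hv hv' =>
    mem_polarPerp.2 fun u hu => by
      obtain ⟨k, rfl⟩ := (Submodule.mem_span_range_iff_exists_fun F).1 hu
      simp [Fin.sum_univ_two, polar_add_left, polar_smul_left', hv, hv']
  have hBS : B = polarPerp Q S := by
    refine Submodule.eq_of_le_of_finrank_le (fun y hy =>
      hperp y (by rw [polar_comm]; exact h1 y hy) (by rw [polar_comm]; exact h3 y hy)) ?_
    have := finrank_polarPerp hQ S
    omega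
  rw [hBS]
  exact hperp e (by rw [polar_self', he, mul_zero]) (by rw [polar_comm]; exact hew)

section pairs

variable (h2 : (2 : F) ≠ 0) (hQ : (polarBilin Q).Nondegenerate) (hn : Module.finrank F V = 5)
variable (hU : U ⊓ polarPerp Q U = ⊥) (hd : Module.finrank F U = 3) (hle : M ≤ siegelGroup Q)
variable (hst : ∀ g ∈ siegelGroup Q, (∀ u ∈ U, g u ∈ U) → g ∈ M)
variable (hpt : ∀ h ∈ M, (∃ u ∈ U, h u ∉ U) → ∀ e ∈ U, e ≠ 0 → Q e = 0 → h e ∉ U)

include h2 hQ hn hd hle hst hpt in
omit [Finite F] in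
theorem polar_ne_zero_of_perp {h : V ≃ₗ[F] V} (hh : h ∈ M) (hmv : ∃ u ∈ U, h u ∉ U) {e e₁ w : V}
    (heU : e ∈ U) (he00 : e ≠ 0) (he : Q e = 0) (he₁U : e₁ ∈ U) (he₁00 : e₁ ≠ 0) (he₁ : Q e₁ = 0)
    (hwU : w ∈ U) (hew : polar Q e w = 0) (hw : Q w ≠ 0) (hex : polar Q e (h e₁) = 0) :
    polar Q (h e₁) w ≠ 0 := by
  intro hc
  set k := siegel Q e w he hew
  have hk : k ∈ M := hst _ (siegel_mem e w he hew) (siegel_maps heU hwU he hew)
  have hkx : k (h e₁) = h e₁ := siegel_eq_self Q e w he hew (by rw [polar_comm]; exact hex) hc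
  by_cases hmv' : ∃ u ∈ U, (h⁻¹ * k * h) u ∉ U
  · refine hpt _ (mul_mem (mul_mem (inv_mem hh) hk) hh) hmv' e₁ he₁U he₁00 he₁ ?_
    show h.symm (k (h e₁)) ∈ U
    rwa [hkx, h.symm_apply_apply]
  push Not at hmv'
  have hm : e ∈ U.map h.toLinearMap := by
    refine mem_of_siegel_fix h2 hQ hn he00 he hew hw (by rw [LinearEquiv.finrank_map_eq, hd]) ?_
    rintro _ ⟨u, hu, rfl⟩
    refine ⟨h.symm (k (h u)), hmv' u hu, ?_⟩
    exact h.apply_symm_apply _
  obtain ⟨u, hu, hue⟩ := hm
  have hue' : h u = e := hue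
  refine hpt h hh hmv u hu (fun h0 => he00 (by rw [← hue', h0, map_zero])) ?_ (by rw [hue']; exact heU)
  rw [← mem_orth.1 (siegelGroup_le_orth (hle hh)), hue', he]

include h2 hQ hn hU hd hle hst hpt in
/-- Points of two members are never orthogonal. -/
theorem polar_ne_zero_of_moved (hq : 5 ≤ Nat.card F) {h : V ≃ₗ[F] V} (hh : h ∈ M)
    (hmv : ∃ u ∈ U, h u ∉ U) {e e₁ : V} (heU : e ∈ U) (he00 : e ≠ 0) (he : Q e = 0) (he₁U : e₁ ∈ U)
    (he₁00 : e₁ ≠ 0) (he₁ : Q e₁ = 0) : polar Q e (h e₁) ≠ 0 := by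
  intro hex
  have hho := siegelGroup_le_orth (hle hh)
  obtain ⟨f, hfU, w, hwU, -, hef, hew, -, hQw, hall⟩ := exists_basis3 hQ hU hd heU he00 he
  obtain ⟨f₁, -, w₁, hw₁U, -, -, he₁w₁, -, hQw₁, -⟩ := exists_basis3 hQ hU hd he₁U he₁00 he₁
  have hc := polar_ne_zero_of_perp h2 hQ hn hd hle hst hpt hh hmv heU he00 he he₁U he₁00 he₁ hwU hew hQw hex
  have hmv' : ∃ u ∈ U, h⁻¹ u ∉ U := by
    by_contra hcon
    push Not at hcon
    obtain ⟨u, hu, hhu⟩ := hmv
    exact hhu (maps_inv (g := h⁻¹) hcon u hu)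
  have hc' : polar Q e (h w₁) ≠ 0 := by
    have := polar_ne_zero_of_perp h2 hQ hn hd hle hst hpt (inv_mem hh) hmv' he₁U he₁00 he₁ heU he00 he hw₁U
      he₁w₁ hQw₁ (by
        show polar Q e₁ (h.symm e) = 0
        rw [← orth_polar hho, h.apply_symm_apply, polar_comm]; exact hex)
    rw [← orth_polar hho] at this
    rwa [show h (h⁻¹ e) = e from h.apply_symm_apply e] at this
  set x := h e₁
  set z := h w₁
  set c := polar Q x w
  set c' := polar Q e z
  have hx : Q x = 0 := by simp only [x]; rw [mem_orth.1 hho, he₁]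
  have hxz : polar Q x z = 0 := by simp only [x, z]; rw [orth_polar hho]; exact he₁w₁
  have hxe : polar Q x e = 0 := by rw [polar_comm]; exact hex
  have hkM : ∀ t : F, SiegIn Q M e (t • w) := fun t h1 h2 =>
    hst _ (siegel_mem e _ h1 h2) (siegel_maps heU (U.smul_mem _ hwU) h1 h2)
  have hzM : ∀ s : F, SiegIn Q M x (s • z) := fun s => by
    have := OrthMax.SiegIn.conj (Q := Q) (M := M) (e := e₁) (w := s • w₁)
      (fun h1 h2 => hst _ (siegel_mem e₁ _ h1 h2) (siegel_maps he₁U (U.smul_mem _ hw₁U) h1 h2)) hh hho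
    rwa [map_smul] at this
  have hew' : ∀ t : F, polar Q e (t • w) = 0 := fun t => by rw [polar_smul_right', hew, mul_zero]
  have hxz' : ∀ s : F, polar Q x (s • z) = 0 := fun s => by rw [polar_smul_right', hxz, mul_zero]
  obtain ⟨a, ha0, ha⟩ : ∃ a : F, a ≠ 0 ∧ a * a ≠ 1 := by
    by_contra hcon
    push Not at hcon
    have := card_le_three_of_sq hcon
    omega
  set v := (a - 1) / (c * c')
  set d := siegel Q x ((-a⁻¹) • z) hx (hxz' _) * siegel Q e (v • w) he (hew' _) *
    siegel Q x ((1 : F) • z) hx (hxz' _)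
  have hdM : d ∈ M := mul_mem (mul_mem (hzM _ hx (hxz' _)) (hkM _ he (hew' _))) (hzM _ hx (hxz' _))
  have hdo : d ∈ orth Q := siegelGroup_le_orth (hle hdM)
  have hve : v * c * c' = a - 1 := by
    simp only [v]
    field_simp
  clear_value v
  have hSx : ∀ t : F, siegel Q x (t • z) hx (hxz' t) x = x := fun t =>
    siegel_eq_self Q x _ hx (hxz' t) (by rw [polar_self', hx, mul_zero]) (hxz' t)
  have hSe : ∀ t : F, siegel Q x (t • z) hx (hxz' t) e = e - (t * c') • x := fun t => by
    simp only [siegel_apply, hex, polar_smul_right', c']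
    module
  have hKe : siegel Q e (v • w) he (hew' v) e = e :=
    siegel_eq_self Q e _ he (hew' v) (by rw [polar_self', he, mul_zero]) (hew' v)
  have hKx : siegel Q e (v • w) he (hew' v) x = x - (v * c) • e := by
    simp only [siegel_apply, hxe, polar_smul_right', c]
    module
  have hde : d e = a • e := by
    simp only [d, LinearEquiv.mul_apply, hSe, map_sub, map_smul, hKe, hKx, hSx]
    match_scalars
    · linear_combination hve
    · field_simp
      linear_combination c' * hve
  have hdx : d x = a⁻¹ • x - (v * c) • e := by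
    simp only [d, LinearEquiv.mul_apply, hSe, map_sub, map_smul, hKx, hSx]
    match_scalars
    · field_simp
      linear_combination -hve
    · ring
  set u := a • d w + (-(a * a)) • w
  have hedw : polar Q e (d w) = 0 := by
    have := orth_polar hdo (u := e) (v := w)
    rw [hde, polar_smul_left', hew] at this
    exact (mul_eq_zero.1 this).resolve_left ha0
  have heu : polar Q e u = 0 := by
    simp only [u, polar_add_right, polar_smul_right', hedw, hew, mul_zero, add_zero]
  have hr : SiegIn Q M e u := by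
    refine OrthMax.SiegIn.add (fun h1 h2 => ?_) (hkM _) he
      (by rw [polar_smul_right', hedw, mul_zero]) (hew' _)
    have h' := OrthMax.SiegIn.conj (hkM 1) hdM hdo
    rw [hde, one_smul] at h'
    rw [← siegel_smul_left e (d w) a h1 (by rw [CfsgLib.Geometry.map_smul', he, mul_zero])
      (by rw [polar_smul_left', hedw, mul_zero]) h2]
    exact h' _ _
  set r := siegel Q e u he heu
  have hrU : ∀ y ∈ U, r y ∈ U := by
    by_contra hcon
    push Not at hcon
    exact hpt r (hr he heu) hcon e heU he00 he (by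
      rw [siegel_eq_self Q e u he heu (by rw [polar_self', he, mul_zero]) heu]; exact heU)
  have huU : u ∈ U := by
    have h' := hrU f hfU
    rw [siegel_apply, polar_comm Q f e, hef, one_smul, mul_one] at h'
    have h'' := U.sub_mem (U.add_mem (U.add_mem h' (U.smul_mem (polar Q f u) heU)) (U.smul_mem (Q u) heU)) hfU
    convert h'' using 1
    abel
  obtain ⟨α, β, γ, hu⟩ := hall u huU
  have hβ : β = 0 := by
    have := heu
    rw [hu] at this
    simpa [polar_add_right, polar_smul_right', polar_self', he, hef, hew] using this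
  have hxdw : polar Q x (d w) = a * c := by
    have h' : polar Q (d x) (d w) = c := orth_polar hdo (u := x) (v := w)
    rw [hdx, polar_sub_left, polar_smul_left', polar_smul_left', hedw, mul_zero, sub_zero] at h'
    rw [← h', ← mul_assoc, mul_inv_cancel₀ ha0, one_mul]
  have hxu : polar Q x u = 0 := by
    simp only [u, polar_add_right, polar_smul_right', hxdw]
    change a * (a * c) + -(a * a) * c = 0
    ring
  have hγ : γ = 0 := by
    rw [hu, hβ, zero_smul, add_zero, polar_add_right, polar_smul_right', polar_smul_right', hxe, mul_zero,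
      zero_add] at hxu
    exact (mul_eq_zero.1 hxu).resolve_right hc
  rw [hβ, hγ, zero_smul, zero_smul, add_zero, add_zero] at hu
  have hdw : a • d w = α • e + (a * a) • w := by
    rw [← hu]; simp only [u]; module
  have hQ' := congrArg Q hdw
  rw [CfsgLib.Geometry.map_add', CfsgLib.Geometry.map_smul', CfsgLib.Geometry.map_smul',
    CfsgLib.Geometry.map_smul', mem_orth.1 hdo, he, polar_smul_left', polar_smul_right', hew] at hQ'
  refine ha (mul_right_cancel₀ (mul_ne_zero (mul_ne_zero ha0 ha0) hQw) ?_)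
  linear_combination -hQ'

end pairs

/-- **The stabiliser of a non-degenerate three-space is maximal.** -/
theorem nondeg_stab_max_three (h2 : (2 : F) ≠ 0) (hQ : (polarBilin Q).Nondegenerate)
    (hn : Module.finrank F V = 5) (hU : U ⊓ polarPerp Q U = ⊥) (hd : Module.finrank F U = 3)
    (hq : 5 ≤ Nat.card F) (hle : M ≤ siegelGroup Q)
    (hst : ∀ g ∈ siegelGroup Q, (∀ u ∈ U, g u ∈ U) → g ∈ M)
    (hne : ∃ g ∈ M, ∃ u ∈ U, g u ∉ U) : siegelGroup Q ≤ M := by
  classical
  haveI := Fintype.ofFinite F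
  by_contra hnot
  have hpt : ∀ h ∈ M, (∃ u ∈ U, h u ∉ U) → ∀ e ∈ U, e ≠ 0 → Q e = 0 → h e ∉ U :=
    fun h hh hmv e heU he00 he0 hhe =>
      hnot (siegelGroup_le_of_point3 h2 hQ hn hU hd hq hle hst hh hmv heU he00 he0 hhe)
  obtain ⟨g, hg, hgmv⟩ := hne
  have hgo := siegelGroup_le_orth (hle hg)
  obtain ⟨e, heU, he00, he⟩ := exists_singular_in (Q := Q) U (by omega)
  obtain ⟨f, hfU, w, hwU, hf, hef, hew, hfw, hQw, -⟩ := exists_basis3 hQ hU hd heU he00 he
  have hfe : polar Q f e = 1 := by rw [polar_comm]; exact hef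
  have hwe : polar Q w e = 0 := by rw [polar_comm]; exact hew
  have hwf : polar Q w f = 0 := by rw [polar_comm]; exact hfw
  -- the points of `U`
  let p : Option F → V := fun j => j.elim e fun t => f + t • w + (-(t * t * Q w)) • e
  have hpU : ∀ j, p j ∈ U := by
    rintro (_ | t)
    · exact heU
    · exact U.add_mem (U.add_mem hfU (U.smul_mem _ hwU)) (U.smul_mem _ heU)
  have hp0 : ∀ j, Q (p j) = 0 := by
    rintro (_ | t)
    · exact he
    · simp only [p, Option.elim, CfsgLib.Geometry.map_add', CfsgLib.Geometry.map_smul', polar_add_left,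
        polar_smul_left', polar_smul_right', hf, he, hfe, hfw, hwe]
      ring
  have hpp : ∀ j l, j ≠ l → polar Q (p j) (p l) ≠ 0 := by
    rintro (_ | s) (_ | t) hne
    · exact absurd rfl hne
    · simp [p, polar_add_right, polar_smul_right', polar_self', he, hef, hew]
    · simp [p, polar_add_left, polar_smul_left', polar_self', he, hfe, hwe]
    · have hst' : s - t ≠ 0 := sub_ne_zero.2 fun h => hne (by rw [h])
      have : polar Q (p (some s)) (p (some t)) = -(Q w * ((s - t) * (s - t))) := by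
        simp only [p, Option.elim, polar_add_left, polar_add_right, polar_smul_left', polar_smul_right',
          polar_self', he, hf, hef, hfe, hew, hwe, hfw, hwf]
        ring
      rw [this]
      exact neg_ne_zero.2 (mul_ne_zero hQw (mul_ne_zero hst' hst'))
  have hp00 : ∀ j, p j ≠ 0 := fun j h => by
    rcases j with _ | t
    · exact he00 h
    · have := hpp none (some t) (by simp)
      rw [h, polar_zero_right] at this
      exact this rfl
  -- the members
  have hs : ∀ t : F, polar Q e (t • w) = 0 := fun t => by rw [polar_smul_right', hew, mul_zero]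
  have hsM : ∀ t : F, siegel Q e (t • w) he (hs t) ∈ M := fun t =>
    hst _ (siegel_mem e _ he (hs t)) (siegel_maps heU (U.smul_mem _ hwU) he (hs t))
  let m : Option F → (V ≃ₗ[F] V) := fun i => i.elim 1 fun t => siegel Q e (t • w) he (hs t) * g
  have hmM : ∀ i, m i ∈ M := by
    rintro (_ | t)
    · exact one_mem M
    · exact mul_mem (hsM t) hg
  have hmne : ∀ i k, i ≠ k → ∃ u ∈ U, ((m i)⁻¹ * m k) u ∉ U := by
    intro i k hik
    by_contra hcon
    push Not at hcon
    obtain ⟨u, hu, hgu⟩ := hgmv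
    rcases i with _ | t <;> rcases k with _ | t'
    · exact hik rfl
    · refine hgu ?_
      have h1 := maps_inv (siegel_maps heU (U.smul_mem t' hwU) he (hs t')) _ (hcon u hu)
      simpa [m] using h1
    · refine hgu ?_
      have h0 : siegel Q e (t • w) he (hs t) (g u) ∈ U := maps_inv hcon u hu
      have h1 := maps_inv (siegel_maps heU (U.smul_mem t hwU) he (hs t)) _ h0
      simpa using h1
    · have ht : t' - t ≠ 0 := sub_ne_zero.2 fun h => hik (by rw [h])
      have hdiff : (siegel Q e (t • w) he (hs t))⁻¹ * siegel Q e (t' • w) he (hs t') =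
          siegel Q e ((t' - t) • w) he (hs _) := by
        rw [inv_mul_eq_iff_eq_mul, siegel_mul]
        exact siegel_congr_right he _ _ (by rw [← add_smul]; congr 1; ring)
      have hB : e ∈ U.map g.toLinearMap := by
        refine mem_of_siegel_fix h2 hQ hn he00 he (hs (t' - t))
          (by rw [CfsgLib.Geometry.map_smul']; exact mul_ne_zero (mul_ne_zero ht ht) hQw)
          (by rw [LinearEquiv.finrank_map_eq, hd]) ?_
        rintro _ ⟨v, hv, rfl⟩
        refine ⟨((m (some t))⁻¹ * m (some t')) v, hcon v hv, ?_⟩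
        rw [← hdiff]
        simp [m, mul_inv_rev]
      obtain ⟨v, hv, hve⟩ := hB
      have hve' : g v = e := hve
      exact hpt g hg ⟨u, hu, hgu⟩ v hv (fun h0 => he00 (by rw [← hve', h0, map_zero]))
        (by rw [← mem_orth.1 hgo, hve', he]) (by rw [hve']; exact heU)
  -- all these points are pairwise non-orthogonal
  let P : Option F × Option F → V := fun a => m a.1 (p a.2)
  have hmo : ∀ i, m i ∈ orth Q := fun i => siegelGroup_le_orth (hle (hmM i))
  have hP0 : ∀ a, Q (P a) = 0 := fun a => by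
    simp only [P]; rw [mem_orth.1 (hmo _)]; exact hp0 _
  have hPP : ∀ a b, a ≠ b → polar Q (P a) (P b) ≠ 0 := by
    intro a b hab
    by_cases h1 : a.1 = b.1
    · simp only [P, h1]
      rw [orth_polar (hmo _)]
      exact hpp _ _ fun h => hab (Prod.ext h1 h)
    · have h3 := polar_ne_zero_of_moved h2 hQ hn hU hd hle hst hpt hq
        (mul_mem (inv_mem (hmM a.1)) (hmM b.1)) (hmne _ _ h1) (hpU a.2) (hp00 _) (hp0 _)
        (hpU b.2) (hp00 _) (hp0 _)
      rw [← orth_polar (hmo a.1)] at h3
      simpa [P] using h3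
  -- too many
  obtain ⟨ℓ, hℓ, hℓ00, hℓ0⟩ := exists_singular_in (Q := Q) (polarPerp Q (Submodule.span F ({e, f} : Set V))) (by
    have := finrank_polarPerp hQ (Submodule.span F ({e, f} : Set V))
    have := finrank_pair_le (F := F) e f
    omega)
  have hel : polar Q e ℓ = 0 := mem_polarPerp.1 hℓ e (Submodule.subset_span (by simp))
  have hfl : polar Q f ℓ = 0 := mem_polarPerp.1 hℓ f (Submodule.subset_span (by simp))
  set K := Submodule.span F (Set.range ![e, f, ℓ])
  have hK : Module.finrank F K = 3 := by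
    have hli : LinearIndependent F ![e, f, ℓ] := by
      rw [Fintype.linearIndependent_iff]
      intro c hc
      rw [Fin.sum_univ_three] at hc
      simp only [Matrix.cons_val_zero, Matrix.cons_val_one, Matrix.cons_val] at hc
      have h1 := congrArg (fun v => polar Q e v) hc
      have h3 := congrArg (fun v => polar Q f v) hc
      simp only [polar_add_right, polar_smul_right', polar_self', he, hf, hef, hfe, hel, hfl,
        mul_zero, mul_one, zero_add, add_zero, polar_zero_right] at h1 h3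
      rw [h1, h3, zero_smul, zero_smul, zero_add, zero_add] at hc
      have h4 := (smul_eq_zero.1 hc).resolve_right hℓ00
      intro i
      fin_cases i <;> assumption
    rw [finrank_span_eq_card hli, Fintype.card_fin]
  let a₀ : Option F × Option F := (none, none)
  let nv : {a : Option F × Option F // a ≠ a₀} → V := fun a => (polar Q e (P a.1))⁻¹ • P a.1
  have hne0 : ∀ a : {a : Option F × Option F // a ≠ a₀}, polar Q e (P a.1) ≠ 0 := fun a => by
    have := hPP a₀ a.1 (Ne.symm a.2)
    simpa [P, a₀, m, p] using this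
  haveI : Finite (V ⧸ K) := Module.finite_of_finite F
  haveI := Fintype.ofFinite (V ⧸ K)
  obtain ⟨a, b, hab, heq⟩ := Fintype.exists_ne_map_eq_of_card_lt
    (fun a : {a : Option F × Option F // a ≠ a₀} => (Submodule.Quotient.mk (p := K) (nv a))) (by
    have h1 : Module.finrank F (V ⧸ K) = 2 := by
      have := K.finrank_quotient_add_finrank
      omega
    rw [← Nat.card_eq_fintype_card (α := V ⧸ K), Module.natCard_eq_pow_finrank (K := F) (V := V ⧸ K), h1,
      Nat.card_eq_fintype_card, Fintype.card_subtype_compl, Fintype.card_subtype_eq, Fintype.card_prod,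
      Fintype.card_option, pow_two]
    have : (Fintype.card F + 1) * (Fintype.card F + 1) =
        Fintype.card F * Fintype.card F + 2 * Fintype.card F + 1 := by ring
    have : 0 < Fintype.card F := Fintype.card_pos
    omega)
  have hdiff := (Submodule.Quotient.eq K).1 heq
  obtain ⟨k, hk⟩ := (Submodule.mem_span_range_iff_exists_fun F).1 hdiff
  rw [Fin.sum_univ_three] at hk
  simp only [Matrix.cons_val_zero, Matrix.cons_val_one, Matrix.cons_val] at hk
  have hn1 : ∀ a, polar Q e (nv a) = 1 := fun a => by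
    simp only [nv, polar_smul_right']; exact inv_mul_cancel₀ (hne0 a)
  have hk1 : k 1 = 0 := by
    have h1 := congrArg (fun v => polar Q e v) hk
    simpa [polar_add_right, polar_sub_right, polar_smul_right', polar_self', he, hef, hel, hn1] using h1
  rw [hk1, zero_smul, add_zero] at hk
  have hQd : Q (nv a - nv b) = 0 := by
    rw [← hk, CfsgLib.Geometry.map_add', CfsgLib.Geometry.map_smul', CfsgLib.Geometry.map_smul',
      polar_smul_left', polar_smul_right', he, hℓ0, hel]
    ring
  rw [CfsgLib.Geometry.map_sub'] at hQd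
  have hz : ∀ a, Q (nv a) = 0 := fun a => by
    simp only [nv, CfsgLib.Geometry.map_smul', hP0, mul_zero]
  rw [hz, hz] at hQd
  have hpab : polar Q (nv a) (nv b) = 0 := by linear_combination -hQd
  simp only [nv, polar_smul_left', polar_smul_right', mul_eq_zero, inv_eq_zero, hne0 a, hne0 b,
    false_or] at hpab
  exact hPP _ _ (fun h => hab (Subtype.ext h)) hpab

end CfsgLib.Sp4Odd
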