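import Cfsg.Agent.Lib.Sp4Odd.Clifford
import Cfsg.Agent.Lib.Sp4Odd.Plane
import Cfsg.Agent.Lib.OrthMax.Apps
import Cfsg.Agent.Lib.Maximal.SpTv

/-!
Normalisers of a square root of a scalar are maximal in `Sp₄(q)`.
-/

set_option autoImplicit false
set_option linter.unusedSectionVars false

namespace CfsgLib.Sp4Odd

open QuadraticMap CfsgLib.Geometry CfsgLib.Classical CfsgLib.OrthMax Matrix

variable {F : Type*} [Field F] [Finite F]

local notation "MM" => Matrix (Fin 2 ⊕ Fin 2) (Fin 2 ⊕ Fin 2) F
local notation "GG" => Matrix.GeneralLinearGroup (Fin 2 ⊕ Fin 2) F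
local notation "V5" => (Unit ⊕ (Fin 2 ⊕ Fin 2) → F)
local notation "Q5" => matQuad (oddMat 2 F)
local notation "Sp4" => Matrix.symplecticGroup (Fin 2) F
local notation "J4" => Matrix.J (Fin 2) F
local notation "sf" => Cfsg.sympForm 2 F

theorem card5 : Fintype.card (Unit ⊕ (Fin 2 ⊕ Fin 2)) = 5 := by simp

theorem finrank5 : Module.finrank F (Unit ⊕ (Fin 2 ⊕ Fin 2) → F) = 5 := by simp

theorem mem_stab5 {W : Submodule F V5} {g : orth Q5} :
    orthToGL Q5 g ∈ Cfsg.Geo.subspaceStabilizer W ↔ ∀ v, v ∈ W ↔ (g : V5 ≃ₗ[F] V5) v ∈ W := by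
  constructor
  · intro h v
    have := h v
    simpa [orthToGL_mulVec] using this
  · intro h v
    simpa [orthToGL_mulVec] using h v

/-- Self-adjointness in matrix form. -/
theorem adjoint_matrix {A B : MM} (h : ∀ u v, sf (A *ᵥ u) v = sf u (B *ᵥ v)) : Aᵀ * J4 = J4 * B := by
  ext i j
  have := h (Pi.single i 1) (Pi.single j 1)
  simp only [Cfsg.sympForm] at this
  rw [← Matrix.vecMul_transpose, ← Matrix.dotProduct_mulVec, Matrix.mulVec_mulVec, Matrix.mulVec_mulVec] at this
  simpa using this

/-- The common condition: `g` normalises the pair `±θ`. -/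
def NormPM (θ : MM) (g : GG) : Prop := (g : MM) * θ = θ * (g : MM) ∨ (g : MM) * θ = -(θ * (g : MM))

theorem normPM_conj {θ : MM} {x : Sp4} :
    NormPM θ (CfsgLib.PrimeOrderSp.spToGL F 2 x) ↔
      (x : MM) * θ * ((x⁻¹ : Sp4) : MM) = θ ∨ (x : MM) * θ * ((x⁻¹ : Sp4) : MM) = -θ := by
  simp only [NormPM, CfsgLib.PrimeOrderSp.spToGL_val]
  refine or_congr ⟨fun h => ?_, fun h => ?_⟩ ⟨fun h => ?_, fun h => ?_⟩
  · rw [h, mul_assoc, sp4_cancel, mul_one]
  · have := congrArg (fun A => A * (x : MM)) h
    simpa [mul_assoc, sp4_cancel'] using this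
  · rw [h, neg_mul, mul_assoc, sp4_cancel, mul_one]
  · have := congrArg (fun A => A * (x : MM)) h
    simpa [mul_assoc, sp4_cancel'] using this

theorem finrank_perp_line (h2 : (2 : F) ≠ 0) {v : V5} (hv : v ≠ 0) :
    Module.finrank F (polarPerp Q5 (Submodule.span F {v})) = 4 := by
  have h1 := finrank_polarPerp (nondeg_odd_two h2) (Submodule.span F {v})
  rw [finrank_span_singleton hv, finrank5] at h1
  omega

/-- A self-adjoint square root of a scalar. -/
theorem selfAdj_maximal (h2 : (2 : F) ≠ 0) (hodd : Odd (Nat.card F)) {v : V5} (hv : Q5 v ≠ 0)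
    {S : Subgroup GG} (hS : ∀ g ∈ Cfsg.spGL 2 F, g ∈ S ↔ NormPM (TT v) g) :
    Cfsg.Geo.IsMaximalIn (Cfsg.spGL 2 F) (S ⊓ Cfsg.spGL 2 F) := by
  have hQ := nondeg_odd_two (F := F) h2
  have hv0 : v ≠ 0 := fun h => hv (by rw [h, QuadraticMap.map_zero])
  set W := Submodule.span F {v}
  refine maximal_of_omega h2 hodd (T := Cfsg.Geo.subspaceStabilizer W) (fun x => ?_) ?_
  · rw [hS _ (CfsgLib.PrimeOrderSp.spToGL_mem x), normPM_conj, mem_stab5, ← TT_toO5 h2, ← map_neg,
      TT_injective.eq_iff, TT_injective.eq_iff]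
    set φ := (toO5 h2 x : V5 ≃ₗ[F] V5)
    constructor
    · intro h u
      simp only [W, Submodule.mem_span_singleton]
      constructor
      · rintro ⟨c, rfl⟩
        rcases h with h | h
        · exact ⟨c, by rw [map_smul, h]⟩
        · exact ⟨-c, by rw [map_smul, h, neg_smul, smul_neg]⟩
      · rintro ⟨c, hc⟩
        rcases h with h | h
        · exact ⟨c, φ.injective (by rw [map_smul, h, hc])⟩
        · exact ⟨-c, φ.injective (by rw [map_smul, h, ← hc, neg_smul, smul_neg, neg_neg])⟩
    · intro h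
      obtain ⟨c, hc⟩ := Submodule.mem_span_singleton.1 ((h v).1 (Submodule.mem_span_singleton_self v))
      have h1 : Q5 (φ v) = Q5 v := mem_orth.1 (toO5 h2 x).2 v
      rw [← hc, CfsgLib.Geometry.map_smul'] at h1
      have h3 : c * c = 1 := mul_right_cancel₀ hv (by linear_combination h1)
      rcases mul_self_eq_one_iff.1 h3 with rfl | rfl
      · exact Or.inl (by rw [← hc, one_smul])
      · exact Or.inr (by rw [← hc, neg_one_smul])
  · have hW : W ⊓ polarPerp Q5 W = ⊥ := by
      rw [eq_bot_iff]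
      rintro u ⟨hu, hu'⟩
      obtain ⟨c, rfl⟩ := Submodule.mem_span_singleton.1 hu
      have h3 := mem_polarPerp.1 hu' v (Submodule.mem_span_singleton_self v)
      rw [polar_smul_right', polar_self'] at h3
      rw [(mul_eq_zero.1 h3).resolve_right (mul_ne_zero h2 hv), zero_smul]
      exact Submodule.zero_mem _
    have hd := finrank_perp_line h2 hv0
    refine nondeg_maximal_of_stab hQ (by rw [card5]) (by simpa [W] using hv0) (fun h => ?_)
      (U := polarPerp Q5 W) (Or.inr rfl) fun M hle hst hne => ?_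
    · have := finrank_span_singleton (K := F) hv0
      change Module.finrank F W = 1 at this
      rw [h, finrank_top, finrank5] at this
      omega
    · refine nondeg_stab_max_odd h2 hQ (by rw [finrank5]) (inf_polarPerp_perp hQ hW) (by rw [hd])
        (fun g _ hg => ?_) ?_ hle hst hne
      · have h1 := Submodule.finrank_mono (show (polarPerp Q5 W).map g.toLinearMap ≤ polarPerp Q5 (polarPerp Q5 W) by
          rintro _ ⟨u, hu, rfl⟩; exact hg u hu)
        rw [polarPerp_polarPerp hQ, LinearEquiv.finrank_map_eq, hd, finrank_span_singleton hv0] at h1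
        omega
      · rw [polarPerp_polarPerp hQ, finrank_span_singleton hv0]
        omega

/-- The vectors whose operators commute with `θ` up to the sign `ε`. -/
def signPart (θ : MM) (ε : F) : Submodule F (Unit ⊕ (Fin 2 ⊕ Fin 2) → F) where
  carrier := {v | θ * TT v = ε • (TT v * θ)}
  zero_mem' := by show θ * TT 0 = ε • (TT 0 * θ); simp
  add_mem' {u v} hu hv := by
    simp only [Set.mem_setOf_eq, map_add, mul_add, add_mul, smul_add] at hu hv ⊢
    rw [hu, hv]
  smul_mem' c u hu := by
    simp only [Set.mem_setOf_eq, map_smul, mul_smul_comm, smul_mul_assoc] at hu ⊢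
    rw [hu, smul_comm]

theorem mem_signPart {θ : MM} {ε : F} {v : V5} : v ∈ signPart θ ε ↔ θ * TT v = ε • (TT v * θ) := Iff.rfl

/-- A skew square root of a scalar, `q ≥ 5`. -/
theorem skew_maximal (h2 : (2 : F) ≠ 0) (hodd : Odd (Nat.card F)) (hq : 5 ≤ Nat.card F) {θ : MM} {d : F}
    (hd : d ≠ 0) (hsq : θ * θ = d • (1 : MM)) (hskew : θᵀ * J4 = -(J4 * θ))
    {S : Subgroup GG} (hS : ∀ g ∈ Cfsg.spGL 2 F, g ∈ S ↔ NormPM θ g) :
    Cfsg.Geo.IsMaximalIn (Cfsg.spGL 2 F) (S ⊓ Cfsg.spGL 2 F) := by
  have hQ := nondeg_odd_two (F := F) h2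
  have hinv : ∀ {A : MM}, θ * A = 0 → A = 0 := fun {A} h => by
    have := congrArg (fun B => θ * B) h
    simp only [← mul_assoc, hsq, smul_mul_assoc, one_mul, mul_zero] at this
    exact (smul_eq_zero.1 this).resolve_left hd
  set L := signPart θ 1
  set K := signPart θ (-1 : F)
  have hL : ∀ {v}, v ∈ L ↔ θ * TT v = TT v * θ := fun {v} => by rw [mem_signPart, one_smul]
  have hK : ∀ {v}, v ∈ K ↔ θ * TT v = -(TT v * θ) := fun {v} => by rw [mem_signPart, neg_one_smul]
  have hsplit : ∀ v : V5, ∃ a ∈ L, ∃ b ∈ K, a + b = v := by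
    intro v
    obtain ⟨w, hw⟩ := exists_TT h2 (A := d⁻¹ • (θ * TT v * θ)) (by
      rw [Matrix.transpose_smul, Matrix.smul_mul, Matrix.mul_smul, Matrix.transpose_mul, Matrix.transpose_mul]
      congr 1
      rw [mul_assoc θᵀ, mul_assoc (TT v)ᵀ, hskew]
      simp only [mul_neg, ← mul_assoc]
      rw [mul_assoc θᵀ, TT_transpose, ← mul_assoc, hskew]
      simp [mul_assoc]) (by
      rw [Matrix.trace_smul, Matrix.trace_mul_cycle, hsq, Matrix.smul_mul, one_mul, Matrix.trace_smul, TT_trace,
        smul_zero, smul_zero])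
    have e1 : θ * TT w = TT v * θ := by
      rw [hw, mul_smul_comm, ← mul_assoc, ← mul_assoc, hsq, smul_mul_assoc, one_mul, smul_mul_assoc, smul_smul,
        inv_mul_cancel₀ hd, one_smul]
    have e2 : TT w * θ = θ * TT v := by
      rw [hw, smul_mul_assoc, mul_assoc, hsq, mul_smul_comm, mul_one, smul_smul, inv_mul_cancel₀ hd, one_smul]
    refine ⟨(2 : F)⁻¹ • (v + w), Submodule.smul_mem _ _ ?_, (2 : F)⁻¹ • (v - w), Submodule.smul_mem _ _ ?_, ?_⟩
    · rw [hL, map_add, mul_add, add_mul, e1, e2, add_comm]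
    · rw [hK, map_sub, mul_sub, sub_mul, e1, e2, neg_sub]
    · rw [← smul_add, add_add_sub_cancel, ← two_smul F, smul_smul, inv_mul_cancel₀ h2, one_smul]
  have horth : ∀ a ∈ L, ∀ b ∈ K, polar Q5 a b = 0 := by
    intro a ha b hb
    have h1 := hL.1 ha
    have h3 := hK.1 hb
    have h4 : θ * (TT a * TT b + TT b * TT a) = -((TT a * TT b + TT b * TT a) * θ) := by
      rw [mul_add, add_mul, ← mul_assoc, h1, mul_assoc (TT a), h3, ← mul_assoc θ (TT b), h3, neg_mul, mul_assoc (TT b),
        h1, mul_neg, mul_assoc (TT a), mul_assoc (TT b), neg_add]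
    rw [TT_anticomm, mul_smul_comm, smul_mul_assoc, mul_one, one_mul] at h4
    have h5 : (polar Q5 a b * 2) • θ = 0 := by rw [mul_two, add_smul]; exact add_eq_zero_iff_eq_neg.2 h4
    have hθ0 : θ ≠ 0 := fun h => one_ne_zero (α := MM) (hinv (A := 1) (by rw [h, zero_mul]))
    exact (mul_eq_zero.1 ((smul_eq_zero.1 h5).resolve_right hθ0)).resolve_right h2
  have hnd : L ⊓ polarPerp Q5 L = ⊥ := by
    rw [eq_bot_iff]
    rintro u ⟨hu, hu'⟩
    refine (Submodule.mem_bot F).2 (hQ.1 u fun v => ?_)
    obtain ⟨a, ha, b, hb, rfl⟩ := hsplit v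
    rw [polarBilin_apply_apply, polar_add_right, horth u hu b hb, polar_comm, mem_polarPerp.1 hu' a ha, add_zero]
  have hperp : polarPerp Q5 L = K := by
    refine le_antisymm (fun u hu => ?_) fun u hu => mem_polarPerp.2 fun a ha => horth a ha u hu
    obtain ⟨a, ha, b, hb, rfl⟩ := hsplit u
    have ha' : a ∈ polarPerp Q5 L := by
      have := (polarPerp Q5 L).sub_mem hu (mem_polarPerp.2 fun a' ha' => horth a' ha' b hb)
      rwa [add_sub_cancel_right] at this
    have : a ∈ L ⊓ polarPerp Q5 L := ⟨ha, ha'⟩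
    rw [hnd, Submodule.mem_bot] at this
    rwa [this, zero_add]
  have hsk : ∀ c : F, θ ≠ c • (1 : MM) := by
    intro c hc
    rw [hc, Matrix.transpose_smul, Matrix.transpose_one, Matrix.smul_mul, one_mul, Matrix.mul_smul, mul_one] at hskew
    have h3 := congrFun (congrFun hskew (.inl 0)) (.inr 0)
    simp [Matrix.J] at h3
    have : c = 0 := (mul_eq_zero.1 (show (2 : F) * c = 0 by linear_combination -h3)).resolve_left h2
    rw [this, zero_smul] at hc
    exact one_ne_zero (α := MM) (hinv (A := 1) (by rw [hc, zero_mul]))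
  have hLtop : L ≠ ⊤ := fun h => by
    obtain ⟨c, hc⟩ := scalar_of_commute h2 fun v => hL.1 (h ▸ Submodule.mem_top : v ∈ L)
    exact hsk c hc
  have hLbot : L ≠ ⊥ := fun h => by
    refine hsk 0 ?_
    rw [zero_smul]
    refine zero_of_anticommute h2 fun v => hK.1 ?_
    rw [← hperp, h]
    exact mem_polarPerp.2 fun u hu => by rw [(Submodule.mem_bot F).1 hu, polar_zero_left]
  refine maximal_of_omega h2 hodd (T := Cfsg.Geo.subspaceStabilizer L) (fun x => ?_) ?_
  · rw [hS _ (CfsgLib.PrimeOrderSp.spToGL_mem x), normPM_conj, mem_stab5]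
    set g : MM := (x : MM)
    set g' : MM := ((x⁻¹ : Sp4) : MM)
    have hgg : g * g' = 1 := sp4_cancel x
    have hg'g : g' * g = 1 := sp4_cancel' x
    set φ := (toO5 h2 x : V5 ≃ₗ[F] V5)
    have hT : ∀ v, TT (φ v) = g * TT v * g' := TT_toO5 h2 x
    have hcan : ∀ {A B : MM}, g * A * g' = g * B * g' → A = B := fun {A B} h => by
      have := congrArg (fun C => g' * C * g) h
      simp only [mul_assoc, hg'g, mul_one] at this
      rwa [← mul_assoc, ← mul_assoc, hg'g, one_mul, one_mul] at this
    constructor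
    · intro h v
      rw [hL, hL, hT]
      obtain ⟨ε, hε, h⟩ : ∃ ε : F, ε ≠ 0 ∧ g * θ * g' = ε • θ := by
        rcases h with h | h
        · exact ⟨1, one_ne_zero, by rw [h, one_smul]⟩
        · exact ⟨-1, neg_ne_zero.2 one_ne_zero, by rw [h, neg_one_smul]⟩
      have e1 : g * (θ * TT v) * g' = ε • (θ * (g * TT v * g')) := by
        rw [← smul_mul_assoc, ← h]
        simp only [mul_assoc]
        rw [← mul_assoc g' g, hg'g, one_mul]
      have e2 : g * (TT v * θ) * g' = ε • (g * TT v * g' * θ) := by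
        rw [← mul_smul_comm, ← h]
        simp only [mul_assoc]
        rw [← mul_assoc g' g, hg'g, one_mul]
      constructor
      · intro hv
        rw [hv, e2] at e1
        exact (smul_right_injective MM hε e1).symm
      · intro hv
        exact hcan (by rw [e1, e2, hv])
    · intro h
      have hLmap : ∀ v ∈ L, φ v ∈ L := fun v hv => (h v).1 hv
      have hKmap : ∀ v ∈ K, φ v ∈ K := by
        refine maps_of_maps_perp hQ (toO5 h2 x).2 fun w hw => ?_
        rw [← hperp, polarPerp_polarPerp hQ] at hw ⊢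
        exact hLmap w hw
      set θ' := g' * θ * g
      have hθ' : ∀ v, ∀ ε : F, θ * TT (φ v) = ε • (TT (φ v) * θ) → θ' * TT v = ε • (TT v * θ') := by
        intro v ε hv
        apply hcan
        rw [hT] at hv
        have e1 : g * (θ' * TT v) * g' = θ * (g * TT v * g') := by
          simp only [θ', mul_assoc]
          rw [← mul_assoc g g', hgg, one_mul]
        have e2 : g * (TT v * θ') * g' = g * TT v * g' * θ := by
          simp only [θ', mul_assoc]
          rw [hgg, mul_one]
        rw [mul_smul_comm, smul_mul_assoc, e1, e2, hv]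
      have hcomm : ∀ v, θ * θ' * TT v = TT v * (θ * θ') := by
        intro v
        obtain ⟨a, ha, b, hb, rfl⟩ := hsplit v
        have a1 := hθ' a 1 (by rw [one_smul]; exact hL.1 (hLmap a ha))
        have b1 := hθ' b (-1) (by rw [neg_one_smul]; exact hK.1 (hKmap b hb))
        rw [one_smul] at a1
        rw [neg_one_smul] at b1
        rw [map_add, mul_add, add_mul, mul_assoc, a1, ← mul_assoc, hL.1 ha, mul_assoc θ θ', b1, mul_neg,
          ← mul_assoc θ, hK.1 hb, neg_mul, neg_neg, mul_assoc, mul_assoc]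
      obtain ⟨c, hc⟩ := scalar_of_commute h2 hcomm
      have hθc : θ' = (d⁻¹ * c) • θ := by
        have := congrArg (fun A => θ * A) hc
        simp only [← mul_assoc, hsq, smul_mul_assoc, one_mul, mul_smul_comm, mul_one] at this
        rw [mul_smul, ← this, smul_smul, inv_mul_cancel₀ hd, one_smul]
      have hsq' : θ' * θ' = d • (1 : MM) := by
        simp only [θ', mul_assoc]
        rw [← mul_assoc g g', hgg, one_mul, ← mul_assoc θ θ, hsq, smul_mul_assoc, one_mul, mul_smul_comm, hg'g]
      rw [hθc, smul_mul_assoc, mul_smul_comm, hsq, smul_smul, smul_smul] at hsq'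
      have h3 := congrFun (congrFun hsq' (.inl 0)) (.inl 0)
      simp [Matrix.one_apply] at h3
      have h4 : d⁻¹ * c * (d⁻¹ * c) = 1 := mul_right_cancel₀ hd (by linear_combination h3)
      have hback : g * θ' * g' = θ := by
        simp only [θ', mul_assoc]
        rw [hgg, mul_one, ← mul_assoc, hgg, one_mul]
      rw [hθc, mul_smul_comm, smul_mul_assoc] at hback
      rcases mul_self_eq_one_iff.1 h4 with h5 | h5 <;> rw [h5] at hback
      · exact Or.inl (by rwa [one_smul] at hback)
      · exact Or.inr (by rw [neg_one_smul] at hback; exact neg_eq_iff_eq_neg.1 hback)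
  · have hd5 : Module.finrank F K + Module.finrank F L = 5 := by
      rw [← hperp, ← finrank5 (F := F)]; exact finrank_polarPerp hQ L
    have hL0 : 0 < Module.finrank F L := Nat.pos_of_ne_zero fun h => hLbot (Submodule.finrank_eq_zero.1 h)
    have hL5 : Module.finrank F L < 5 := by
      rw [← finrank5 (F := F)]; exact Submodule.finrank_lt hLtop
    obtain ⟨U, hor, hU, hdU⟩ : ∃ U, (U = L ∨ U = polarPerp Q5 L) ∧ U ⊓ polarPerp Q5 U = ⊥ ∧
        3 ≤ Module.finrank F U := by
      by_cases h3 : 3 ≤ Module.finrank F L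
      · exact ⟨L, Or.inl rfl, hnd, h3⟩
      · exact ⟨_, Or.inr rfl, inf_polarPerp_perp hQ hnd, by rw [hperp]; omega⟩
    have hdU4 : Module.finrank F U ≤ 4 := by
      rcases hor with rfl | rfl
      · omega
      · rw [hperp]; omega
    refine nondeg_maximal_of_stab hQ (by rw [card5]) hLbot hLtop hor fun M hle hst hne => ?_
    by_cases h3 : Module.finrank F U = 3
    · exact nondeg_stab_max_three h2 hQ finrank5 hU h3 hq hle hst hne
    · refine nondeg_stab_max_odd h2 hQ (by rw [finrank5]) hU (by omega) (fun g _ hg => ?_) (fun h => by omega)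
        hle hst hne
      have h1 := Submodule.finrank_mono (show U.map g.toLinearMap ≤ polarPerp Q5 U by
        rintro _ ⟨u, hu, rfl⟩; exact hg u hu)
      have h5 := finrank_polarPerp hQ U
      rw [LinearEquiv.finrank_map_eq] at h1
      rw [finrank5] at h5
      omega

end CfsgLib.Sp4Odd
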