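import Mathlib
import Cfsg.Agent.Lib.Maximal.SpSubMain

/-!
Subfield groups are maximal in the four-dimensional symplectic group in odd characteristic.
-/

set_option autoImplicit false
set_option linter.unusedSectionVars false
set_option linter.unusedSimpArgs false
set_option linter.style.haveILetI false

namespace CfsgLib.Sp4Odd

open scoped Matrix
open CfsgLib.Maximal

variable {F : Type*} [Field F] {F₀ : Subfield F}

local notation "sf" => Cfsg.sympForm 2 F
local notation "VV" => (Fin 2 ⊕ Fin 2 → F)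
local notation "GG" => Matrix.GeneralLinearGroup (Fin 2 ⊕ Fin 2) F

/-- A subgroup of `Sp₄` containing all its elements that are rational up to a scalar. -/
structure RatOver (F₀ : Subfield F) (H : Subgroup (Matrix.GeneralLinearGroup (Fin 2 ⊕ Fin 2) F)) : Prop where
  le : H ≤ Cfsg.spGL 2 F
  mem : ∀ g, g ∈ Cfsg.spGL 2 F → RatUpToScalar F₀ g → g ∈ H

variable {H : Subgroup (Matrix.GeneralLinearGroup (Fin 2 ⊕ Fin 2) F)}

lemma RatOver.stv_mem (h : RatOver F₀ H) {k : F} (hk : k ∈ F₀) {w : VV} (hw : RatV F₀ w) : stv k w ∈ H :=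
  h.mem _ (stv_mem_spGL _ _) ⟨1, one_ne_zero, by rw [one_smul]; exact ratM_stv hk hw⟩

lemma RatOver.stv_map (h : RatOver F₀ H) {g : GG} (hg : g ∈ H) {k : F}
    {v : VV} (hv : stv k v ∈ H) : stv k ((g : Matrix _ _ F) *ᵥ v) ∈ H := by
  rw [← stv_conj (h.le hg)]; exact mul_mem (mul_mem hg hv) (inv_mem hg)

lemma RatOver.sYel_mem (h : RatOver F₀ H) {k : F} (hk : k ∈ F₀) {a b : VV} (ha : RatV F₀ a) (hb : RatV F₀ b) :
    sYel k a b ∈ H :=
  mul_mem (mul_mem (h.stv_mem hk (ha.add' hb)) (inv_mem (h.stv_mem hk ha))) (inv_mem (h.stv_mem hk hb))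

/-- The parameters of a long root group do not depend on the rational centre. -/
lemma RatOver.long_move (h : RatOver F₀ H) {a b : VV} {k : F} (ha : RatV F₀ a) (ha0 : a ≠ 0) (hb : RatV F₀ b)
    (hk : stv k a ∈ H) : stv k b ∈ H := by
  rcases eq_or_ne b 0 with rfl | hb0
  · rw [stv_zero]; exact one_mem H
  have step : ∀ {x y : VV}, RatV F₀ x → RatV F₀ y → sf x y ≠ 0 → stv k x ∈ H → stv k y ∈ H := by
    intro x y hx hy hxy hmem
    have h1 := h.stv_map (h.stv_mem (F₀.inv_mem (rat_sf hx hy)) (hy.sub hx)) hmem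
    rwa [stv_mulVec, sf_sub_right, sf_alt, sub_zero, inv_mul_cancel₀ hxy, one_smul, add_sub_cancel] at h1
  obtain ⟨y, hy, hay, hby⟩ := exists_rat_both ha ha0 hb hb0
  exact step hy hb (by rw [sf_skew]; exact neg_ne_zero.2 hby) (step ha hy hay hk)

/-- A shear moves a short root element by a long one. -/
lemma RatOver.long_of_shear (h : RatOver F₀ H) {Z : GG} (hZ : Z ∈ H) {a b : VV} {s t : F}
    (hba : sf b a = 0) (hZb : (Z : Matrix _ _ F) *ᵥ b = b) (hZa : (Z : Matrix _ _ F) *ᵥ a = a + s • b)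
    (ht : sYel t b a ∈ H) : stv (2 * (t * s)) b ∈ H := by
  have h1 : sYel t b (a + s • b) ∈ H := by
    have := mul_mem (mul_mem hZ ht) (inv_mem hZ)
    rwa [sYel_conj (h.le hZ), hZa, hZb] at this
  have e : sYel t b (a + s • b) = sYel t b a * stv (2 * (t * s)) b := by
    refine Units.ext (CfsgLib.Geometry.matrix_eq_of_mulVec fun z => ?_)
    simp only [Units.val_mul, ← Matrix.mulVec_mulVec, stv_mulVec, sYel_mulVec _ hba,
      sYel_mulVec _ (show sf b (a + s • b) = 0 by rw [sf_add_right, sf_smul_right, hba, sf_alt]; simp),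
      sf_add_left, sf_add_right, sf_smul_left, sf_smul_right, sf_alt, hba]
    module
  rw [e] at h1
  exact (mul_mem_cancel_left ht).1 h1

/-- A rational hyperbolic pair orthogonal to a rational vector. -/
lemma exists_rat_pair_perp {b : VV} (hb : RatV F₀ b) (hb0 : b ≠ 0) :
    ∃ a c : VV, RatV F₀ a ∧ RatV F₀ c ∧ sf b a = 0 ∧ sf b c = 0 ∧ sf a c = 1 := by
  classical
  obtain ⟨b, rfl⟩ := hb.exists_upV
  let L : (Fin 2 ⊕ Fin 2 → F₀) →ₗ[F₀] F₀ := CfsgLib.Geometry.sympBilin 2 F₀ b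
  obtain ⟨a, haL, hab⟩ : ∃ a ∈ LinearMap.ker L, a ∉ Submodule.span F₀ {b} := by
    refine SetLike.not_le_iff_exists.1 fun hle => ?_
    have h1 := L.finrank_range_add_finrank_ker
    have h2 := Submodule.finrank_mono hle
    have h3 := L.range.finrank_le
    have h4 : Module.finrank F₀ (Submodule.span F₀ {b}) ≤ 1 := (finrank_span_le_card _).trans (by simp)
    simp at h1 h3
    omega
  have hba : sf (upV b) (upV a) = 0 := by
    rw [sf_upV]
    have : Cfsg.sympForm 2 F₀ b a = 0 := haL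
    rw [this]; rfl
  obtain ⟨c, hc, hbc, hac⟩ := exists_rat_eval (ratV_upV a) (ratV_upV b) hb0 (fun t ht e =>
    hab (Submodule.mem_span_singleton.2 ⟨⟨t, ht⟩, funext fun i => Subtype.ext (by
      simpa [upV] using (congrFun e i).symm)⟩))
  exact ⟨upV a, c, ratV_upV a, hc, hba, hbc, hac⟩

section big

variable [Fintype F] {r : ℕ}

/-- A larger long root group forces the whole symplectic group. -/
lemma RatOver.eq_of_big (h : RatOver F₀ H) (h2 : (2 : F) ≠ 0) (hr : r.Prime)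
    (hcard : Fintype.card F = Nat.card F₀ ^ r) (hbig : ¬ SpSmall F₀ H) : H = Cfsg.spGL 2 F := by
  classical
  unfold SpSmall at hbig
  push Not at hbig
  obtain ⟨a₀, k₀, ha₀, ha00, hk₀, hk₀F⟩ := hbig
  set P : F → Prop := fun x => ∀ b : VV, RatV F₀ b → stv x b ∈ H with hP
  have hshort : ∀ x, P x → ∀ a b : VV, RatV F₀ a → RatV F₀ b → sYel x a b ∈ H := fun x hx a b ha hb =>
    mul_mem (mul_mem (hx _ (ha.add' hb)) (inv_mem (hx _ ha))) (inv_mem (hx _ hb))
  have hprod : ∀ x y, P x → (∀ a b : VV, RatV F₀ a → RatV F₀ b → sYel y a b ∈ H) → P (2 * (y * x)) := by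
    intro x y hx hy b hb
    rcases eq_or_ne b 0 with rfl | hb0
    · rw [stv_zero]; exact one_mem H
    obtain ⟨a, c, ha, hc, hba, hbc, hac⟩ := exists_rat_pair_perp hb hb0
    have hcb : sf c b = 0 := by rw [sf_skew, hbc, neg_zero]
    refine h.long_of_shear (hshort x hx c b hc hb) hba ?_ ?_ (hy b a hb ha)
    · rw [sYel_mulVec _ hcb, hbc, sf_alt]; simp
    · rw [sYel_mulVec _ hcb, hac, show sf a b = 0 by rw [sf_skew, hba, neg_zero]]; simp
  have hhalf : (2 : F)⁻¹ ∈ F₀ := F₀.inv_mem (natCast_mem F₀ 2)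
  have hscal : ∀ x r, P x → r ∈ F₀ → P (r * x) := fun x r hx hr => by
    have := hprod x (2⁻¹ * r) hx fun a b ha hb => h.sYel_mem (F₀.mul_mem hhalf hr) ha hb
    rwa [show 2 * (2⁻¹ * r * x) = r * x by field_simp] at this
  let A : Subalgebra F₀ F :=
    { carrier := {x | P x}
      one_mem' := fun b hb => h.stv_mem F₀.one_mem hb
      zero_mem' := fun b hb => h.stv_mem F₀.zero_mem hb
      add_mem' := fun {x y} hx hy b hb => by
        have e : stv (x + y) b = stv x b * stv y b :=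
          Units.ext (CfsgLib.Geometry.matrix_eq_of_mulVec fun z => by
            simp only [Units.val_mul, ← Matrix.mulVec_mulVec, stv_mulVec, sf_add_left, sf_smul_left, sf_alt]
            module)
        rw [e]; exact mul_mem (hx b hb) (hy b hb)
      mul_mem' := fun {x y} hx hy => by
        have := hscal _ _ (hprod y x hy (hshort x hx)) hhalf
        rwa [show 2⁻¹ * (2 * (x * y)) = x * y by field_simp] at this
      algebraMap_mem' := fun x b hb => h.stv_mem x.2 hb }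
  have hAmem : k₀ ∈ A := fun b hb => h.long_move ha₀ ha00 hb hk₀
  have hfr : Module.finrank F₀ F = r := by
    have h1 := Module.card_eq_pow_finrank (K := F₀) (V := F)
    rw [hcard, Nat.card_eq_fintype_card] at h1
    exact (Nat.pow_right_injective Fintype.one_lt_card h1).symm
  haveI := Subalgebra.isSimpleOrder_of_finrank_prime F₀ F (hfr ▸ hr)
  have hA : A = ⊤ := by
    rcases eq_bot_or_eq_top A with hA | hA
    · exfalso
      obtain ⟨x, hx⟩ := Algebra.mem_bot.1 (hA ▸ hAmem : k₀ ∈ (⊥ : Subalgebra F₀ F))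
      exact hk₀F (hx ▸ x.2)
    · exact hA
  have long : ∀ b : VV, RatV F₀ b → SpFull H b := fun b hb k =>
    (show k ∈ A from hA ▸ Algebra.mem_top) b hb
  let S : Fin 2 → Submodule F VV := fun i =>
    Submodule.span F {(Pi.single (Sum.inl i) 1 : VV), Pi.single (Sum.inr i) 1}
  have hSmem : ∀ {i : Fin 2} {w : VV}, w ∈ S i ↔ ∃ x y : F,
      x • (Pi.single (Sum.inl i) 1 : VV) + y • Pi.single (Sum.inr i) 1 = w :=
    fun {i} {w} => Submodule.mem_span_pair
  have hee : ∀ i : Fin 2, sf (Pi.single (Sum.inl i) 1 : VV) (Pi.single (Sum.inr i) 1) = -1 := fun i => by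
    simp [CfsgLib.Geometry.sympForm_eq, Pi.single_apply]
  have hnd : ∀ i, Cfsg.Geo.IsNondegenerateOn sf (S i) := by
    intro i w hw hw0
    obtain ⟨x, y, rfl⟩ := hSmem.1 hw
    set e : VV := Pi.single (Sum.inl i) 1
    set e' : VV := Pi.single (Sum.inr i) 1
    have hee1 : sf e e' = -1 := hee i
    have hee' : sf e' e = 1 := by rw [sf_skew, hee1, neg_neg]
    rcases eq_or_ne x 0 with rfl | hx
    · have hy : y ≠ 0 := fun h0 => hw0 (by simp [h0])
      exact ⟨⟨e, hSmem.2 ⟨1, 0, by simp [e]⟩, by simp [sf_smul_right, hee1, hy]⟩,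
        ⟨e, hSmem.2 ⟨1, 0, by simp [e]⟩, by simp [sf_smul_left, hee', hy]⟩⟩
    · exact ⟨⟨e', hSmem.2 ⟨0, 1, by simp [e']⟩, by simp [sf_add_right, sf_smul_right, hee', sf_alt, hx]⟩,
        ⟨e', hSmem.2 ⟨0, 1, by simp [e']⟩, by simp [sf_add_left, sf_smul_left, hee1, sf_alt, hx]⟩⟩
  have hfull : ∀ i, ∀ w ∈ S i, SpFull H w := by
    intro i w hw
    obtain ⟨x, y, rfl⟩ := hSmem.1 hw
    rcases eq_or_ne x 0 with rfl | hx
    · simpa using (long _ (ratV_single (Sum.inr i) F₀.one_mem)).smul y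
    · refine SpFull.move h.le (long _ (ratV_single (Sum.inr i) F₀.one_mem))
        ((long _ (ratV_single (Sum.inl i) F₀.one_mem)).smul x) ?_ y
      rw [sf_smul_left, hee]; simp [hx]
  have hperp : ∀ i j, i ≠ j → ∀ p ∈ S i, ∀ s ∈ S j, sf p s = 0 := by
    intro i j hij p hp s hs
    obtain ⟨x, y, rfl⟩ := hSmem.1 hp
    obtain ⟨x', y', rfl⟩ := hSmem.1 hs
    simp [sf_add_left, sf_add_right, sf_smul_left, sf_smul_right, CfsgLib.Geometry.sympForm_eq,
      Pi.single_apply, hij, hij.symm]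
  refine spGL_eq_of_full h.le fun v => ?_
  let u : Fin 2 → VV := fun i =>
    v (Sum.inl i) • (Pi.single (Sum.inl i) 1 : VV) + v (Sum.inr i) • Pi.single (Sum.inr i) 1
  have huS : ∀ i, u i ∈ S i := fun i => hSmem.2 ⟨_, _, rfl⟩
  have hv : u 0 + u 1 = v := by
    funext j
    rcases j with j | j <;> fin_cases j <;> simp [u]
  rw [← hv]
  by_cases h0 : u 0 = 0
  · rw [h0, zero_add]; exact hfull 1 _ (huS 1)
  by_cases h1 : u 1 = 0
  · rw [h1, add_zero]; exact hfull 0 _ (huS 0)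
  have he0S : (Pi.single (Sum.inl 0) 1 : VV) ∈ S 0 := hSmem.2 ⟨1, 0, by simp⟩
  have he1S : (Pi.single (Sum.inl 1) 1 : VV) ∈ S 1 := hSmem.2 ⟨1, 0, by simp⟩
  have a1 : SpFull H (u 0 + Pi.single (Sum.inl 1) 1) :=
    SpFull.change h.le (S 0) (hnd 0) (hfull 0) he0S (by simp) (huS 0) h0
      (fun s hs => hperp 1 0 (by decide) _ he1S s hs)
      (long _ ((ratV_single (Sum.inl 0) F₀.one_mem).add' (ratV_single (Sum.inl 1) F₀.one_mem)))
  rw [add_comm] at a1 ⊢
  exact SpFull.change h.le (S 1) (hnd 1) (hfull 1) he1S (by simp) (huS 1) h1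
    (fun s hs => hperp 0 1 (by decide) _ (huS 0) s hs) a1

end big

section small

variable [Fintype F] {r : ℕ}

/-- Pairings with rational vectors orthogonal to a rational vector in the polar of a centre. -/
lemma RatOver.key (h : RatOver F₀ H) (h2 : (2 : F) ≠ 0) (hs : SpSmall F₀ H) {k : F} {w b x y : VV}
    (hw : stv k w ∈ H) (hb : RatV F₀ b) (hb0 : b ≠ 0) (hwb : sf w b = 0) (hx : RatV F₀ x) (hy : RatV F₀ y)
    (hbx : sf b x = 0) (hby : sf b y = 0) : k * sf w x * sf y w ∈ F₀ := by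
  have hbw : sf b w = 0 := by rw [sf_skew, hwb, neg_zero]
  have hyb : sf y b = 0 := by rw [sf_skew, hby, neg_zero]
  have h1 := h.stv_map (h.sYel_mem F₀.one_mem hb hx) hw
  rw [sYel_mulVec _ hbx, hwb, zero_smul, zero_add, one_smul] at h1
  set Z := stv k (w + sf w x • b) * (stv k w)⁻¹ with hZ
  have hZb : (Z : Matrix _ _ F) *ᵥ b = b := by
    simp only [hZ, stv_inv, Units.val_mul, ← Matrix.mulVec_mulVec, stv_mulVec, sf_add_left, sf_add_right,
      sf_smul_left, sf_smul_right, sf_alt, hbw, mul_zero, add_zero, zero_smul]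
  have hZy : (Z : Matrix _ _ F) *ᵥ y = y + (k * sf w x * sf y w) • b := by
    simp only [hZ, stv_inv, Units.val_mul, ← Matrix.mulVec_mulVec, stv_mulVec, sf_add_left, sf_add_right,
      sf_smul_left, sf_smul_right, sf_alt, hyb, hwb, mul_zero, add_zero, smul_add]
    module
  have h3 := hs b _ hb hb0 (h.long_of_shear (mul_mem h1 (inv_mem hw)) hby hZb hZy (h.sYel_mem F₀.one_mem hb hy))
  have h4 := F₀.mul_mem (F₀.inv_mem (natCast_mem F₀ 2)) h3
  rwa [Nat.cast_ofNat, ← mul_assoc, inv_mul_cancel₀ h2, one_mul, one_mul] at h4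

/-- Over a quadratic extension every transvection centre lies on a rational line. -/
lemma RatOver.line_of_two (h : RatOver F₀ H) (h2 : (2 : F) ≠ 0) (hs : SpSmall F₀ H)
    (hcard : Fintype.card F = Nat.card F₀ ^ 2) {k : F} {w : VV} (hk : k ≠ 0) (hw : stv k w ∈ H) :
    RatLine F₀ w := by
  classical
  let φ : (Fin 2 ⊕ Fin 2 → F₀) →ₗ[F₀] F :=
    { toFun := fun v => sf w (upV v)
      map_add' := fun u v => by
        rw [← sf_add_right]; congr 1
      map_smul' := fun c v => by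
        rw [RingHom.id_apply, show upV (c • v) = (c : F) • (upV v : VV) from funext fun i => by simp [upV],
          sf_smul_right]
        rfl }
  have hfr : Module.finrank F₀ F = 2 := by
    have h1 := Module.card_eq_pow_finrank (K := F₀) (V := F)
    rw [hcard, Nat.card_eq_fintype_card] at h1
    exact (Nat.pow_right_injective Fintype.one_lt_card h1).symm
  have hker : 2 ≤ Module.finrank F₀ (LinearMap.ker φ) := by
    have h1 := φ.finrank_range_add_finrank_ker
    have h3 := φ.range.finrank_le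
    simp [hfr] at h1 h3
    omega
  obtain ⟨b₁, hb₁, hb₁0⟩ := Submodule.exists_mem_ne_zero_of_ne_bot (p := LinearMap.ker φ) (fun e => by
    rw [e, finrank_bot] at hker; omega)
  obtain ⟨b₂, hb₂, hb₂1⟩ : ∃ b₂ ∈ LinearMap.ker φ, b₂ ∉ Submodule.span F₀ {b₁} := by
    refine SetLike.not_le_iff_exists.1 fun hle => ?_
    have h1 := Submodule.finrank_mono hle
    rw [finrank_span_singleton hb₁0] at h1
    omega
  set b : VV := upV b₁
  set b' : VV := upV b₂
  have hb : RatV F₀ b := ratV_upV _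
  have hb' : RatV F₀ b' := ratV_upV _
  have hwb : sf w b = 0 := hb₁
  have hwb' : sf w b' = 0 := hb₂
  have hb0 : b ≠ 0 := fun e => hb₁0 (upV_eq_zero.1 e)
  have hb'0 : b' ≠ 0 := fun e => hb₂1 (by rw [upV_eq_zero.1 e]; exact Submodule.zero_mem _)
  have hne : ∀ t ∈ F₀, b' ≠ t • b := fun t ht e => hb₂1 (Submodule.mem_span_singleton.2
    ⟨⟨t, ht⟩, funext fun i => Subtype.ext (by simpa [b, b', upV] using (congrFun e i).symm)⟩)
  obtain ⟨d', hd', hbd', hb'd'⟩ := exists_rat_eval hb' hb hb0 hne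
  obtain ⟨d, hd, hb'd, hbd⟩ := exists_rat_eval hb hb' hb'0 (fun t ht e => by
    rcases eq_or_ne t 0 with rfl | ht0
    · exact hb0 (by rw [e, zero_smul])
    · exact hne t⁻¹ (F₀.inv_mem ht) (by rw [e, inv_smul_smul₀ ht0]))
  -- a scaling with rational pairings
  have fin : ∀ c : F, c ≠ 0 → (∀ z : VV, RatV F₀ z → c⁻¹ * sf w z ∈ F₀) → RatLine F₀ w := fun c hc hz =>
    ⟨c⁻¹, inv_ne_zero hc, ratV_of_sf fun z hz' => by rw [sf_smul_left]; exact hz z hz'⟩
  rcases eq_or_ne w 0 with rfl | hw0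
  · exact ⟨1, one_ne_zero, fun i => by simp [F₀.zero_mem]⟩
  by_cases hI : ∃ x : VV, RatV F₀ x ∧ sf b x = 0 ∧ sf b' x = 0 ∧ sf w x ≠ 0
  · obtain ⟨x, hx, hbx, hb'x, hγ⟩ := hI
    have hkγ : k * sf w x * sf x w ∈ F₀ := h.key h2 hs hw hb hb0 hwb hx hx hbx hbx
    rw [sf_skew x w] at hkγ
    have hne0 : k * sf w x * -sf w x ≠ 0 := mul_ne_zero (mul_ne_zero hk hγ) (neg_ne_zero.2 hγ)
    have ratio : ∀ z : VV, RatV F₀ z → (sf b z = 0 ∨ sf b' z = 0) → (sf w x)⁻¹ * sf w z ∈ F₀ := by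
      intro z hz hor
      have h1 : k * sf w x * sf z w ∈ F₀ := by
        rcases hor with h0 | h0
        · exact h.key h2 hs hw hb hb0 hwb hx hz hbx h0
        · exact h.key h2 hs hw hb' hb'0 hwb' hx hz hb'x h0
      rw [sf_skew z w] at h1
      have h3 := F₀.mul_mem h1 (F₀.inv_mem hkγ)
      convert h3 using 1
      field_simp
    refine fin _ hγ fun z hz => ?_
    have e : sf w z = sf w (z - sf b z • d) + sf b z * sf w d := by
      rw [sf_sub_right, sf_smul_right]; ring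
    rw [e, mul_add, ← mul_assoc, mul_comm _ (sf b z), mul_assoc]
    exact F₀.add_mem (ratio _ (hz.sub (hd.smul (rat_sf hb hz)))
      (Or.inl (by rw [sf_sub_right, sf_smul_right, hbd, mul_one, sub_self])))
      (F₀.mul_mem (rat_sf hb hz) (ratio d hd (Or.inr hb'd)))
  push Not at hI
  set α := sf w d
  set β := sf w d'
  have hexp : ∀ z : VV, RatV F₀ z → sf w z = sf b z * α + sf b' z * β := by
    intro z hz
    have h1 := hI (z - sf b z • d - sf b' z • d')
      ((hz.sub (hd.smul (rat_sf hb hz))).sub (hd'.smul (rat_sf hb' hz)))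
      (by rw [sf_sub_right, sf_sub_right, sf_smul_right, sf_smul_right, hbd, hbd']; ring)
      (by rw [sf_sub_right, sf_sub_right, sf_smul_right, sf_smul_right, hb'd, hb'd']; ring)
    rw [sf_sub_right, sf_sub_right, sf_smul_right, sf_smul_right] at h1
    linear_combination h1
  by_cases hβ : β = 0
  · have hα : α ≠ 0 := fun hα => hw0 (funext fun i => by
      obtain ⟨i, rfl⟩ : ∃ j, j = i := ⟨i, rfl⟩
      have h1 := hexp (sfDual (Pi.single i 1)) (ratV_sfDual (ratV_single i F₀.one_mem))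
      rw [hα, hβ, mul_zero, mul_zero, add_zero, sf_sfDual, single_dotProduct, one_mul] at h1
      exact h1)
    refine fin α hα fun z hz => ?_
    rw [hexp z hz, hβ, mul_zero, add_zero, mul_comm (sf b z) α, inv_mul_cancel_left₀ hα]
    exact rat_sf hb hz
  have k1 := h.key h2 hs hw hb hb0 hwb hd' hd' hbd' hbd'
  have k2 := h.key h2 hs hw hb' hb'0 hwb' hd hd hb'd hb'd
  have k3 := h.key h2 hs hw (hb.add' hb') (fun e => hne (-1) (F₀.neg_mem F₀.one_mem) (by
      rw [neg_one_smul]; exact eq_neg_of_add_eq_zero_right e))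
    (by rw [sf_add_right, hwb, hwb', add_zero]) (hd.sub hd') (hd.sub hd')
    (by rw [sf_add_left, sf_sub_right, sf_sub_right, hbd, hbd', hb'd, hb'd']; ring)
    (by rw [sf_add_left, sf_sub_right, sf_sub_right, hbd, hbd', hb'd, hb'd']; ring)
  rw [sf_skew _ w] at k1 k2 k3
  rw [sf_sub_right] at k3
  change k * β * -β ∈ F₀ at k1
  change k * α * -α ∈ F₀ at k2
  change k * (α - β) * -(α - β) ∈ F₀ at k3
  have k4 := F₀.mul_mem (F₀.inv_mem (natCast_mem F₀ 2)) (F₀.sub_mem (F₀.sub_mem k3 k1) k2)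
  have k5 := F₀.mul_mem k4 (F₀.inv_mem (F₀.neg_mem k1))
  have hrat : β⁻¹ * α ∈ F₀ := by
    convert k5 using 1
    rw [Nat.cast_ofNat]
    field_simp
    ring
  refine fin β hβ fun z hz => ?_
  rw [hexp z hz, mul_add, ← mul_assoc, mul_comm β⁻¹ (sf b z), mul_assoc,
    show β⁻¹ * (sf b' z * β) = sf b' z by field_simp]
  exact F₀.add_mem (F₀.mul_mem (rat_sf hb hz) hrat) (rat_sf hb' hz)

/-- The product of a parameter and the square of a rational pairing is rational. -/
lemma RatOver.param_mem (h : RatOver F₀ H) (hs : SpSmall F₀ H) (hr : r.Prime) (hr2 : r ≠ 2)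
    (hcard : Fintype.card F = Nat.card F₀ ^ r) (h2 : (2 : F) ≠ 0) {k : F} {v b : VV} (hv : stv k v ∈ H)
    (hb : RatV F₀ b) : k * (sf v b * sf v b) ∈ F₀ := by
  classical
  rcases eq_or_ne (k * (sf v b * sf v b)) 0 with h0 | h0
  · rw [h0]; exact F₀.zero_mem
  have hc : sf v b ≠ 0 := fun e => h0 (by rw [e]; ring)
  set c := sf v b with hcdef
  set a := c⁻¹ • v
  have hab : sf a b = 1 := by rw [sf_smul_left, inv_mul_cancel₀ hc]
  obtain ⟨lam, hlam⟩ : ∃ l, l = -(k * (c * c)) := ⟨_, rfl⟩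
  suffices hl : lam ∈ F₀ by simpa [hlam] using F₀.neg_mem hl
  set K := Subfield.closure ({lam} : Set F) with hK
  let lam' : K := ⟨lam, Subfield.subset_closure rfl⟩
  have hgen : Subfield.closure ({lam'} : Set K) = ⊤ := by
    refine eq_top_iff.2 fun x _ => ?_
    have h1 : (x : F) ∈ (Subfield.closure ({lam'} : Set K)).map K.subtype := by
      rw [RingHom.map_field_closure, Set.image_singleton]
      exact x.2
    obtain ⟨y, hy, hxy⟩ := Subfield.mem_map.1 h1
    rwa [← show y = x from Subtype.ext hxy]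
  obtain ⟨p, hp⟩ := CharP.exists K
  haveI : Fact p.Prime := ⟨CharP.char_is_prime K p⟩
  have h2K : (2 : K) ≠ 0 := fun e => h2 (by
    have h' := congrArg K.subtype e
    rwa [map_ofNat, map_zero] at h')
  have hlam0 : lam' ≠ 0 := fun e => h0 (by
    have : lam = 0 := congrArg Subtype.val e
    simpa [hlam] using this)
  haveI := Fintype.ofFinite K
  rcases CfsgLib.PSL2.Gen.main p h2K lam' hlam0 hgen with htop | ⟨-, h9⟩
  swap
  · refine mem_of_mul_self_mem hr hr2 hcard ?_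
    have h9' : lam ^ 2 = -1 := by simpa [lam'] using congrArg Subtype.val h9
    rw [← sq, h9']
    exact F₀.neg_mem F₀.one_mem
  set φ := (planeHom hab).comp (Matrix.SpecialLinearGroup.map K.subtype) with hφ
  have hval : ∀ (g : Matrix.SpecialLinearGroup (Fin 2) K) (i j : Fin 2),
      (Matrix.SpecialLinearGroup.map K.subtype g).1 i j = ((g.1 i j : K) : F) := fun _ _ _ => rfl
  have hle : Subgroup.closure (CfsgLib.PSL2.Gen.gens lam') ≤ H.comap φ := by
    rw [Subgroup.closure_le]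
    rintro g (hg | hg)
    · have e : φ g = stv 1 b := Units.ext (CfsgLib.Geometry.matrix_eq_of_mulVec fun x => by
        rw [hφ, MonoidHom.comp_apply, planeHom_mulVec, planeLin_apply, stv_mulVec]
        simp only [hval, hg]
        simp)
      show φ g ∈ H
      rw [e]; exact h.stv_mem F₀.one_mem hb
    · have e : φ g = stv k v := Units.ext (CfsgLib.Geometry.matrix_eq_of_mulVec fun x => by
        rw [hφ, MonoidHom.comp_apply, planeHom_mulVec, planeLin_apply, stv_mulVec]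
        simp only [hval, hg]
        simp [lam', hlam, a, sf_smul_left, sf_skew v x, smul_smul]
        congr 1
        field_simp)
      show φ g ∈ H
      rw [e]; exact hv
  let g : Matrix.SpecialLinearGroup (Fin 2) K := ⟨!![1, 0; lam', 1], by simp [Matrix.det_fin_two]⟩
  have hg : φ g ∈ H := hle (htop ▸ Subgroup.mem_top g)
  have e : φ g = stv lam b := Units.ext (CfsgLib.Geometry.matrix_eq_of_mulVec fun x => by
    rw [hφ, MonoidHom.comp_apply, planeHom_mulVec, planeLin_apply, stv_mulVec]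
    simp only [hval]
    simp [g, lam'])
  rw [e] at hg
  exact hs b lam hb (fun e => hc (by rw [hcdef, e, sf_zero_right])) hg

/-- In odd characteristic and odd degree every transvection centre lies on a rational line. -/
lemma RatOver.line_of_odd (h : RatOver F₀ H) (hs : SpSmall F₀ H) (hr : r.Prime) (hr2 : r ≠ 2)
    (hcard : Fintype.card F = Nat.card F₀ ^ r) (h2 : (2 : F) ≠ 0) {k : F} {v : VV} (hk : k ≠ 0)
    (hv : stv k v ∈ H) : RatLine F₀ v := by
  rcases eq_or_ne v 0 with rfl | hv0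
  · exact ⟨1, one_ne_zero, fun i => by simp [F₀.zero_mem]⟩
  obtain ⟨b₀, hb₀, hc⟩ : ∃ b, RatV F₀ b ∧ sf v b ≠ 0 := by
    by_contra hcon
    push Not at hcon
    exact hv0 (funext fun i => by
      have := hcon (sfDual (Pi.single i 1)) (ratV_sfDual (ratV_single i F₀.one_mem))
      rwa [sf_sfDual, single_dotProduct, one_mul] at this)
  refine ⟨(sf v b₀)⁻¹, inv_ne_zero hc, ratV_of_sf fun x hx => mem_of_mul_self_mem hr hr2 hcard ?_⟩
  have h1 := h.param_mem hs hr hr2 hcard h2 hv hx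
  have h3 := F₀.mul_mem h1 (F₀.inv_mem (h.param_mem hs hr hr2 hcard h2 hv hb₀))
  rw [sf_smul_left]
  convert h3 using 1
  field_simp

/-- Every member of a small overgroup is rational up to a scalar. -/
lemma RatOver.rat_of_small (h : RatOver F₀ H) (h2 : (2 : F) ≠ 0) (hs : SpSmall F₀ H) (hr : r.Prime)
    (hcard : Fintype.card F = Nat.card F₀ ^ r) {g : GG} (hg : g ∈ H) : RatUpToScalar F₀ g := by
  classical
  have hiso : ∀ x y, sf (Units.val g *ᵥ x) (Units.val g *ᵥ y) = sf x y := (mem_spGL_iff g).1 (h.le hg)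
  have all : ∀ a : VV, RatV F₀ a → RatLine F₀ (Units.val g *ᵥ a) := fun a ha => by
    have hX := h.stv_map hg (h.stv_mem F₀.one_mem ha)
    rcases eq_or_ne r 2 with rfl | hr2
    · exact h.line_of_two h2 hs hcard one_ne_zero hX
    · exact h.line_of_odd hs hr hr2 hcard h2 one_ne_zero hX
  choose C hC hCr using all
  have pairing : ∀ {a z : VV} (ha : RatV F₀ a) (hz : RatV F₀ z), sf a z ≠ 0 → C a ha * C z hz ∈ F₀ := by
    intro a z ha hz hne
    have h1 := rat_sf (hCr a ha) (hCr z hz)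
    rw [sf_smul_left, sf_smul_right, hiso] at h1
    have h2 := F₀.mul_mem h1 (F₀.inv_mem (rat_sf ha hz))
    convert h2 using 1
    field_simp
  have hi₀ : ∃ i₀ : Fin 2 ⊕ Fin 2, True := ⟨Sum.inl 0, trivial⟩
  obtain ⟨i₀, -⟩ := hi₀
  have hsgl : ∀ i : Fin 2 ⊕ Fin 2, RatV F₀ (Pi.single i 1 : VV) := fun i => ratV_single i F₀.one_mem
  refine ⟨C _ (hsgl i₀), hC _ _, fun l i => ?_⟩
  obtain ⟨z, hz, h1, h2⟩ := exists_rat_both (hsgl i₀) (by simp) (hsgl i) (by simp)
  have hr : C _ (hsgl i₀) * (C _ (hsgl i))⁻¹ ∈ F₀ := by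
    have h3 := F₀.mul_mem (pairing (hsgl i₀) hz h1) (F₀.inv_mem (pairing (hsgl i) hz h2))
    convert h3 using 1
    have := hC _ hz
    field_simp
  have h4 := F₀.mul_mem hr (hCr _ (hsgl i) l)
  rw [Matrix.smul_apply, smul_eq_mul]
  convert h4 using 1
  rw [Matrix.mulVec_single_one, Pi.smul_apply, smul_eq_mul, ← mul_assoc, mul_assoc (C _ (hsgl i₀)),
    inv_mul_cancel₀ (hC _ (hsgl i)), mul_one]
  rfl

lemma ratOver_dichotomy (h2 : (2 : F) ≠ 0) (h : RatOver F₀ H) (hr : r.Prime)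
    (hcard : Fintype.card F = Nat.card F₀ ^ r) : (∀ g ∈ H, RatUpToScalar F₀ g) ∨ H = Cfsg.spGL 2 F := by
  by_cases hs : SpSmall F₀ H
  · exact Or.inl fun g hg => h.rat_of_small h2 hs hr hcard hg
  · exact Or.inr (h.eq_of_big h2 hr hcard hs)

end small

section maximal

variable [Fintype F]

lemma spSub_maximal_aux {r : ℕ} (hr : r.Prime) (hcard : Fintype.card F = Nat.card F₀ ^ r) (h2 : (2 : F) ≠ 0)
    (P : Matrix.GeneralLinearGroup (Fin 2 ⊕ Fin 2) F) {η : F} (hη : η ≠ 0)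
    (hP : ∀ u v, sf (Units.val P *ᵥ u) (Units.val P *ᵥ v) = η * sf u v) :
    Cfsg.Geo.IsMaximalIn (Cfsg.spGL 2 F) (Cfsg.Geo.subfieldSubgroup F₀ P ⊓ Cfsg.spGL 2 F) := by
  classical
  have hPi : ∀ u v, sf (Units.val P⁻¹ *ᵥ u) (Units.val P⁻¹ *ᵥ v) = η⁻¹ * sf u v := fun u v => by
    have := hP (Units.val P⁻¹ *ᵥ u) (Units.val P⁻¹ *ᵥ v)
    simp only [Matrix.mulVec_mulVec, ← Units.val_mul, mul_inv_cancel, Units.val_one, Matrix.one_mulVec] at this
    rw [this, inv_mul_cancel_left₀ hη]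
  have hconj : ∀ {g}, g ∈ Cfsg.spGL 2 F → P * g * P⁻¹ ∈ Cfsg.spGL 2 F := fun {g} hg => by
    rw [mem_spGL_iff] at hg ⊢
    intro u v
    simp only [Units.val_mul, ← Matrix.mulVec_mulVec, hP, hg, hPi, mul_inv_cancel_left₀ hη]
  have hconj' : ∀ {g}, g ∈ Cfsg.spGL 2 F → P⁻¹ * g * P ∈ Cfsg.spGL 2 F := fun {g} hg => by
    rw [mem_spGL_iff] at hg ⊢
    intro u v
    simp only [Units.val_mul, ← Matrix.mulVec_mulVec, hP, hg, hPi, inv_mul_cancel_left₀ hη]
  refine ⟨lt_of_le_of_ne inf_le_right fun heq => ?_, fun M hSM hMK => ?_⟩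
  · obtain ⟨μ, hμ⟩ := exists_notMem_subfield hr hcard
    let i : Fin 2 := 0
    let e : VV := Pi.single (Sum.inl i) 1
    have h1 := ((SetLike.ext_iff.1 heq _).2 (hconj (stv_mem_spGL μ e))).1
    have h1' := (mem_subfieldSubgroup_iff P _).1 h1
    clear h1
    rename' h1' => h1
    rw [show P⁻¹ * (P * stv μ e * P⁻¹) * P = stv μ e by group] at h1
    obtain ⟨c, hc, hrat⟩ := h1
    have hee : sf (Pi.single (Sum.inr i) 1 : VV) e = 1 := by
      simp [e, CfsgLib.Geometry.sympForm_eq, Pi.single_apply]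
    have hii := hrat (Sum.inr i) (Sum.inr i)
    have hij := hrat (Sum.inl i) (Sum.inr i)
    simp only [Matrix.smul_apply, stv, tv_val, Matrix.add_apply, Matrix.vecMulVec_apply, fvec, hee] at hii hij
    simp [e, Pi.smul_apply] at hii hij
    have h2 := F₀.mul_mem (F₀.inv_mem hii) hij
    rw [← mul_assoc, inv_mul_cancel₀ hc, one_mul] at h2
    exact hμ h2
  · let H : Subgroup (Matrix.GeneralLinearGroup (Fin 2 ⊕ Fin 2) F) := M.map (MulAut.conj P⁻¹).toMonoidHom
    have memH : ∀ g, g ∈ H ↔ P * g * P⁻¹ ∈ M := fun g => by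
      constructor
      · rintro ⟨x, hx, rfl⟩
        simpa [MulAut.conj_apply, mul_assoc] using hx
      · intro hg; exact ⟨_, hg, by simp [MulAut.conj_apply, mul_assoc]⟩
    have hle : H ≤ Cfsg.spGL 2 F := fun g hg => by
      have := hconj' (hMK ((memH g).1 hg))
      rwa [show P⁻¹ * (P * g * P⁻¹) * P = g by group] at this
    have hmem : ∀ g, g ∈ Cfsg.spGL 2 F → RatUpToScalar F₀ g → g ∈ H := fun g hg hrat =>
      (memH g).2 (hSM ⟨(mem_subfieldSubgroup_iff P _).2 (by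
        rwa [show P⁻¹ * (P * g * P⁻¹) * P = g by group]), hconj hg⟩)
    rcases ratOver_dichotomy h2 ⟨hle, hmem⟩ hr hcard with hall | htop
    · refine Or.inl (le_antisymm (fun g hg => ⟨(mem_subfieldSubgroup_iff P g).2 (hall _ ?_), hMK hg⟩) hSM)
      rw [memH, show P * (P⁻¹ * g * P) * P⁻¹ = g by group]; exact hg
    · refine Or.inr (le_antisymm hMK fun g hg => ?_)
      have := (memH (P⁻¹ * g * P)).1 (htop ▸ hconj' hg)
      rwa [show P * (P⁻¹ * g * P) * P⁻¹ = g by group] at this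

theorem subfield_maximal {r : ℕ} (hr : r.Prime) (hcard : Fintype.card F = Nat.card F₀ ^ r) (h2 : (2 : F) ≠ 0)
    (P : Matrix.GeneralLinearGroup (Fin 2 ⊕ Fin 2) F) {ζ : F} (hζ : ζ ≠ 0)
    (hP : Cfsg.Geo.IsFormRationalStructure (Cfsg.sympForm 2 F) F₀ ζ P) :
    Cfsg.Geo.IsMaximalIn (Cfsg.spGL 2 F) (Cfsg.Geo.subfieldSubgroup F₀ P ⊓ Cfsg.spGL 2 F) := by
  classical
  let A : Matrix (Fin 2 ⊕ Fin 2) (Fin 2 ⊕ Fin 2) F := ζ • ((Units.val P)ᵀ * Matrix.J (Fin 2) F * Units.val P)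
  have hA : ∀ u v, u ⬝ᵥ (A *ᵥ v) = ζ * sf (Units.val P *ᵥ u) (Units.val P *ᵥ v) := fun u v => by
    simp only [A, Matrix.smul_mulVec, dotProduct_smul, smul_eq_mul, Cfsg.sympForm, ← Matrix.mulVec_mulVec,
      Matrix.dotProduct_mulVec u (Units.val P)ᵀ, Matrix.vecMul_transpose]
  have hrat : RatM F₀ A := fun i j => by
    have := hP (Pi.single i 1) (Pi.single j 1) (ratV_single i F₀.one_mem) (ratV_single j F₀.one_mem)
    rw [← hA] at this
    simpa using this
  obtain ⟨G, hG⟩ := hrat.lift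
  have hup : ∀ u v : Fin 2 ⊕ Fin 2 → F₀, ((u ⬝ᵥ (G *ᵥ v) : F₀) : F) = upV u ⬝ᵥ (A *ᵥ upV v) := fun u v => by
    rw [← hG]
    simp [dotProduct, Matrix.mulVec, upV]
  have halt : ∀ u, u ⬝ᵥ (G *ᵥ u) = 0 := fun u => Subtype.ext (by
    rw [hup, hA, sf_alt, mul_zero]; rfl)
  have hdet : G.det ≠ 0 := fun h0 => by
    have h2 := RingHom.map_det F₀.subtype G
    rw [h0, map_zero, show F₀.subtype.mapMatrix G = G.map F₀.subtype from rfl, hG] at h2
    obtain ⟨v, hv0, hv⟩ := Matrix.exists_mulVec_eq_zero_iff.2 h2.symm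
    refine hv0 (mulVec_inj P ?_)
    show Units.val P *ᵥ v = Units.val P *ᵥ 0
    rw [Matrix.mulVec_zero]
    refine (CfsgLib.Geometry.sympBilin_nondegenerate 2 F).1 _ fun y => ?_
    obtain ⟨y, rfl⟩ := mulVec_surj P y
    have h3 := hA y v
    rw [hv, dotProduct_zero] at h3
    rw [CfsgLib.Geometry.sympBilin_apply, sf_skew, (mul_eq_zero.1 h3.symm).resolve_left hζ, neg_zero]
  obtain ⟨Q, hQ⟩ := exists_rat_sympBasis G halt hdet
  rw [← subfieldSubgroup_mul_rat P Q]
  refine spSub_maximal_aux hr hcard h2 _ (inv_ne_zero hζ) fun u v => ?_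
  have key : ∀ u v, u ⬝ᵥ (((Units.val Q)ᵀ * G * Units.val Q) *ᵥ v) = u ⬝ᵥ (Matrix.J (Fin 2) F₀ *ᵥ v) := fun u v => by
    rw [← Matrix.mulVec_mulVec, ← Matrix.mulVec_mulVec, Matrix.dotProduct_mulVec u (Units.val Q)ᵀ,
      Matrix.vecMul_transpose]
    exact hQ u v
  have hQM : (Units.val Q)ᵀ * G * Units.val Q = Matrix.J (Fin 2) F₀ := Matrix.ext fun i j => by
    simpa using key (Pi.single i 1) (Pi.single j 1)
  have h5 := congrArg (fun M : Matrix (Fin 2 ⊕ Fin 2) (Fin 2 ⊕ Fin 2) F₀ => M.map F₀.subtype) hQM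
  simp only [Matrix.map_mul, Matrix.transpose_map, hG] at h5
  have hJ : (Matrix.J (Fin 2) F₀).map F₀.subtype = Matrix.J (Fin 2) F := by
    simp [Matrix.J, Matrix.fromBlocks_map]
    exact Matrix.ext fun i j => by rcases eq_or_ne i j with rfl | hij <;> simp [*]
  rw [hJ] at h5
  rw [Units.val_mul, show Units.val (Matrix.GeneralLinearGroup.map F₀.subtype Q) = (Units.val Q).map F₀.subtype
    from rfl, ← Matrix.mulVec_mulVec, ← Matrix.mulVec_mulVec, eq_inv_mul_iff_mul_eq₀ hζ, ← hA,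
    ← Matrix.vecMul_transpose, ← Matrix.dotProduct_mulVec, Matrix.mulVec_mulVec, Matrix.mulVec_mulVec, h5]
  rfl

end maximal

end CfsgLib.Sp4Odd
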