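import Cfsg.Agent.Lib.Sp4Odd.Root
import Cfsg.Agent.Lib.OrthFrame.Main
import Cfsg.Agent.Lib.Techniques.SymplecticNeighbour

/-!
Normalisers of the symplectic-type group of order `32` are maximal in `Sp₄(p)`.
-/

set_option autoImplicit false
set_option linter.unusedSectionVars false

namespace CfsgLib.Sp4Odd

open QuadraticMap CfsgLib.Geometry CfsgLib.Classical Matrix
open scoped commutatorElement

variable {F : Type*} [Field F] [Finite F]

local notation "MM" => Matrix (Fin 2 ⊕ Fin 2) (Fin 2 ⊕ Fin 2) F
local notation "GG" => Matrix.GeneralLinearGroup (Fin 2 ⊕ Fin 2) F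
local notation "V5" => (Unit ⊕ (Fin 2 ⊕ Fin 2) → F)
local notation "Q5" => matQuad (oddMat 2 F)
local notation "Sp4" => Matrix.symplecticGroup (Fin 2) F
local notation "J4" => Matrix.J (Fin 2) F

/-- Conjugation fixes or negates each of the operators. -/
def SignFix {n : ℕ} (X : Fin n → MM) (g : GG) : Prop :=
  ∀ i, (g : MM) * X i = X i * (g : MM) ∨ (g : MM) * X i = -(X i * (g : MM))

/-- The skew operators form a space of dimension at most ten. -/
theorem card_skew_le {n : ℕ} (h2 : (2 : F) ≠ 0) {X : Fin n → MM} (hX : LinearIndependent F X)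
    (h : ∀ i, (X i)ᵀ * J4 = -(J4 * X i)) : n ≤ 10 := by
  let ix : Fin 10 → (Fin 2 ⊕ Fin 2) × (Fin 2 ⊕ Fin 2) :=
    ![(.inl 0, .inl 0), (.inl 0, .inl 1), (.inl 0, .inr 0), (.inl 0, .inr 1), (.inl 1, .inl 1), (.inl 1, .inr 0),
      (.inl 1, .inr 1), (.inr 0, .inr 0), (.inr 0, .inr 1), (.inr 1, .inr 1)]
  let L : MM →ₗ[F] (Fin 10 → F) :=
    { toFun := fun A k => (J4 * A) (ix k).1 (ix k).2
      map_add' := fun A B => by funext k; simp [mul_add]
      map_smul' := fun c A => by funext k; simp }
  have hsym : ∀ A ∈ Submodule.span F (Set.range X), (J4 * A)ᵀ = J4 * A := by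
    intro A hA
    induction hA using Submodule.span_induction with
    | mem A hA =>
      obtain ⟨i, rfl⟩ := hA
      rw [Matrix.transpose_mul, Matrix.J_transpose, mul_neg, h i, neg_neg]
    | zero => simp
    | add A B _ _ ha hb => rw [mul_add, Matrix.transpose_add, ha, hb]
    | smul c A _ ha => rw [Matrix.mul_smul, Matrix.transpose_smul, ha]
  have hinj : Function.Injective (L.comp (Submodule.span F (Set.range X)).subtype) := by
    refine (injective_iff_map_eq_zero _).2 fun A hA => Subtype.ext ?_
    have e : ∀ k, (J4 * (A : MM)) (ix k).1 (ix k).2 = 0 := fun k => congrFun hA k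
    have hs := hsym _ A.2
    have hz : J4 * (A : MM) = 0 := by
      have hs' : ∀ a b, (J4 * (A : MM)) b a = (J4 * (A : MM)) a b := fun a b => congrFun (congrFun hs a) b
      have e0 : (J4 * (A : MM)) (.inl 0) (.inl 0) = 0 := e 0
      have e1 : (J4 * (A : MM)) (.inl 0) (.inl 1) = 0 := e 1
      have e2 : (J4 * (A : MM)) (.inl 0) (.inr 0) = 0 := e 2
      have e3 : (J4 * (A : MM)) (.inl 0) (.inr 1) = 0 := e 3
      have e4 : (J4 * (A : MM)) (.inl 1) (.inl 1) = 0 := e 4
      have e5 : (J4 * (A : MM)) (.inl 1) (.inr 0) = 0 := e 5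
      have e6 : (J4 * (A : MM)) (.inl 1) (.inr 1) = 0 := e 6
      have e7 : (J4 * (A : MM)) (.inr 0) (.inr 0) = 0 := e 7
      have e8 : (J4 * (A : MM)) (.inr 0) (.inr 1) = 0 := e 8
      have e9 : (J4 * (A : MM)) (.inr 1) (.inr 1) = 0 := e 9
      ext i j
      rw [Matrix.zero_apply]
      rcases i with i | i <;> rcases j with j | j <;> fin_cases i <;> fin_cases j <;>
        first | assumption | (rw [hs']; assumption)
    show (A : MM) = 0
    have h3 := congrArg (fun B => J4 * B) hz
    simpa [← mul_assoc, Matrix.J_squared] using h3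
  have h1 := LinearMap.finrank_le_finrank_of_injective hinj
  rw [finrank_span_eq_card hX, Module.finrank_fintype_fun_eq_card, Fintype.card_fin, Fintype.card_fin] at h1
  exact h1

/-- Five anticommuting involutions inside a symplectic-type group of order `32`. -/
theorem exists_five (h2 : (2 : F) ≠ 0) {R : Subgroup GG} (hR : Cfsg.Geo.IsSymplecticTypeGroup 2 R)
    (hirr : Cfsg.Geo.ActsAbsolutelyIrreducibly (Cfsg.Geo.matrixSet R)) (hle : R ≤ Cfsg.spGL 2 F)
    (hcard : Nat.card R = 32) (hZ : Nat.card (Subgroup.center R) = 2) :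
    ∃ x : Fin 5 → GG, ∃ v : Fin 5 → V5, (∀ i, x i ∈ R) ∧ (∀ i, TT (v i) = (x i : MM)) ∧ (∀ i, Q5 (v i) = 1) ∧
      (∀ i j, i ≠ j → polar Q5 (v i) (v j) = 0) ∧ (∀ r ∈ R, SignFix (fun i => (x i : MM)) r) ∧
      (∀ g : GG, g ∈ Subgroup.normalizer (R : Set GG) → ∀ i, ∃ j,
        (g : MM) * (x i : MM) * ((g⁻¹ : GG) : MM) = (x j : MM) ∨
          (g : MM) * (x i : MM) * ((g⁻¹ : GG) : MM) = -(x j : MM)) := by
  classical
  haveI : Finite R := Nat.finite_of_card_ne_zero (by omega)
  haveI := Fintype.ofFinite R
  set M : R → MM := fun r => ((r : GG) : MM) with hM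
  have hMinj : Function.Injective M := fun a b h => Subtype.ext (Units.ext h)
  have hMmul : ∀ a b, M (a * b) = M a * M b := fun a b => rfl
  have hM1 : M 1 = 1 := rfl
  have hone : (1 : MM) ≠ -1 := fun h => by
    have := congrFun (congrFun h (.inl 0)) (.inl 0)
    simp [Matrix.one_apply] at this
    exact h2 (by linear_combination this)
  have hadj : ∀ r : R, (M r)ᵀ * J4 * M r = J4 := fun r => by
    obtain ⟨y, hy⟩ := CfsgLib.PrimeOrderSp.exists_spToGL (hle r.2)
    simp only [hM, ← hy, CfsgLib.PrimeOrderSp.spToGL_val]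
    exact sp4_transpose_J y
  -- the centre
  have hscal : ∀ r : R, ∀ c : F, M r = c • (1 : MM) → M r = 1 ∨ M r = -1 := by
    intro r c hc
    have h := hadj r
    rw [hc] at h
    have h1 := congrFun (congrFun h (.inl 0)) (.inr 0)
    simp [Matrix.J, Matrix.smul_mul, Matrix.mul_smul] at h1
    have h3 : c * c = 1 := by linear_combination h1
    rcases mul_self_eq_one_iff.1 h3 with rfl | rfl
    · exact Or.inl (by rw [hc, one_smul])
    · exact Or.inr (by rw [hc, neg_one_smul])
  have hcomm_all : ∀ A : MM, (∀ s : R, A * M s = M s * A) → ∃ c : F, A = c • (1 : MM) := fun A h =>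
    hirr.2 A (by rintro _ ⟨g, hg, rfl⟩; exact h ⟨g, hg⟩)
  have hcenter : ∀ r : R, r ∈ Subgroup.center R → M r = 1 ∨ M r = -1 := fun r hr => by
    obtain ⟨c, hc⟩ := hcomm_all (M r) fun s => by
      rw [← hMmul, ← hMmul, Subgroup.mem_center_iff.1 hr s]
    exact hscal r c hc
  obtain ⟨z, hz⟩ : ∃ z : R, M z = -1 := by
    haveI : Nontrivial (Subgroup.center R) := Finite.one_lt_card_iff_nontrivial.1 (by omega)
    obtain ⟨z, hz⟩ := exists_ne (1 : Subgroup.center R)
    exact ⟨z, (hcenter _ z.2).resolve_left fun h => hz (Subtype.ext (hMinj (h.trans hM1.symm)))⟩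
  have hT : Cfsg.IsOfSymplecticType R := ⟨hR.pGroup, hR.cyclic_of_characteristic⟩
  have h4 : ∀ t : R, t ^ 4 = 1 := fun t => by
    have := Monoid.pow_exponent_eq_one t
    rwa [hR.exponent_eq, show Nat.gcd 2 2 = 2 by rfl] at this
  have hsign : ∀ r s : R, M r * M s = M s * M r ∨ M r * M s = -(M s * M r) := by
    intro r s
    have hc := hcenter _ (CfsgLib.Techniques.SymplecticNeighbour.commutator_central hT h4 r s).1
    have e : M r * M s = M ⁅r, s⁆ * (M s * M r) := by
      rw [← hMmul, ← hMmul, ← hMmul, commutatorElement_def]; congr 1; group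
    rcases hc with h | h <;> rw [h] at e
    · exact Or.inl (by rwa [one_mul] at e)
    · exact Or.inr (by rwa [neg_one_mul] at e)
  have hsq : ∀ r : R, M r * M r = 1 ∨ M r * M r = -1 := by
    intro r
    rw [← hMmul]
    refine hcenter _ (Subgroup.mem_center_iff.2 fun s => hMinj ?_)
    simp only [hMmul]
    rcases hsign r s with h | h
    · rw [← mul_assoc, ← h, mul_assoc, ← h, ← mul_assoc]
    · refine (?_ : M r * M r * M s = M s * (M r * M r)).symm
      rw [mul_assoc, h, mul_neg, ← mul_assoc, h, neg_mul, neg_neg, mul_assoc]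
  have hneg : ∀ a : R, M (z * a) = -M a := fun a => by rw [hMmul, hz, neg_one_mul]
  -- separation
  have hsep : ∀ a b : R, (∀ y : R, M a * M y = M y * M a ↔ M b * M y = M y * M b) → M a = M b ∨ M a = -M b := by
    intro a b h
    obtain ⟨c, hc⟩ := hcomm_all (M a * M b) fun y => by
      rcases hsign a y with ha | ha
      · rw [mul_assoc, (h y).1 ha, ← mul_assoc, ha, mul_assoc]
      · rcases hsign b y with hb | hb
        · rw [mul_assoc, hb, ← mul_assoc, (h y).2 hb, mul_assoc]
        · rw [mul_assoc, hb, mul_neg, ← mul_assoc, ha, neg_mul, neg_neg, mul_assoc]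
    rcases hscal (a * b) c hc with h1 | h1 <;> rw [hMmul] at h1 <;> rcases hsq b with h3 | h3
    · exact Or.inl (by
        have := congrArg (fun A => A * M b) h1
        simpa [mul_assoc, h3] using this)
    · exact Or.inr (by
        have := congrArg (fun A => A * M b) h1
        simpa [mul_assoc, h3, neg_eq_iff_eq_neg] using this)
    · exact Or.inr (by
        have := congrArg (fun A => A * M b) h1
        simpa [mul_assoc, h3] using this)
    · exact Or.inl (by
        have := congrArg (fun A => A * M b) h1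
        simpa [mul_assoc, h3] using this)
  -- linear independence
  have indep : ∀ s : Finset R, (∀ a ∈ s, ∀ b ∈ s, a ≠ b → M a ≠ -M b) → ∀ c : R → F,
      ∑ a ∈ s, c a • M a = 0 → ∀ a ∈ s, c a = 0 := by
    intro s
    induction s using Finset.induction_on with
    | empty => simp
    | insert a s ha ih =>
      intro hs c hsum
      have hs' : ∀ x ∈ s, ∀ y ∈ s, x ≠ y → M x ≠ -M y := fun x hx y hy =>
        hs x (Finset.mem_insert_of_mem hx) y (Finset.mem_insert_of_mem hy)
      rw [Finset.sum_insert ha] at hsum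
      have hrest : ∀ b ∈ s, c b = 0 := by
        intro b hb
        obtain ⟨y, hy⟩ : ∃ y, ¬ (M a * M y = M y * M a ↔ M b * M y = M y * M b) := by
          by_contra hcon
          push Not at hcon
          have hne : a ≠ b := fun e => ha (e ▸ hb)
          rcases hsep a b hcon with h | h
          · exact hne (hMinj h)
          · exact hs a (Finset.mem_insert_self _ _) b (Finset.mem_insert_of_mem hb) hne h
        let σ : R → F := fun u => if M u * M y = M y * M u then 1 else -1
        have hσ : ∀ u, M y * M u = σ u • (M u * M y) := fun u => by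
          simp only [σ]
          split_ifs with h
          · rw [one_smul, h]
          · rw [neg_one_smul, (hsign u y).resolve_left h, neg_neg]
        have h1 := congrArg (fun A => M y * A) hsum
        have h3 := congrArg (fun A => σ a • (A * M y)) hsum
        simp only [mul_add, Finset.mul_sum, add_mul, Finset.sum_mul, mul_smul_comm, smul_mul_assoc, mul_zero,
          zero_mul, smul_zero, smul_add, Finset.smul_sum] at h1 h3
        simp only [hσ] at h1
        have h5 : ∑ u ∈ s, (c u * (σ u - σ a)) • (M u * M y) = 0 := by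
          have := congrArg₂ (fun A B => A - B) h1 h3
          simp only [sub_zero, smul_comm (c a) (σ a), add_sub_add_left_eq_sub, ← Finset.sum_sub_distrib] at this
          rw [← this]
          exact Finset.sum_congr rfl fun u _ => by module
        have h6 : ∑ u ∈ s, (c u * (σ u - σ a)) • M u = 0 := by
          have h7 := congrArg (fun A => A * M y⁻¹) h5
          simp only [Finset.sum_mul, smul_mul_assoc, zero_mul, mul_assoc] at h7
          simpa [← hMmul, hM1] using h7
        have h8 := ih hs' _ h6 b hb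
        refine (mul_eq_zero.1 h8).resolve_right (sub_ne_zero.2 ?_)
        simp only [σ]
        by_cases pa : M a * M y = M y * M a <;> by_cases pb : M b * M y = M y * M b <;>
          simp [pa, pb] at hy ⊢ <;> intro h <;> exact h2 (by first | linear_combination h | linear_combination -h)
      rw [Finset.sum_eq_zero (fun b hb => by rw [hrest b hb, zero_smul]), add_zero] at hsum
      intro u hu
      rcases Finset.mem_insert.1 hu with rfl | hu
      · refine (smul_eq_zero.1 hsum).resolve_right fun h0 => ?_
        rcases hsq u with h | h <;> rw [h0, mul_zero] at h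
        · exact one_ne_zero h.symm
        · exact one_ne_zero (neg_eq_zero.1 h.symm)
      · exact hrest u hu
  have hne_neg : ∀ a : R, M a ≠ -M a := fun a h => by
    rcases hsq a with h1 | h1 <;> nth_rw 1 [h] at h1 <;> rw [neg_mul] at h1
    · rcases hsq a with h3 | h3 <;> rw [h3] at h1
      · exact hone h1.symm
      · rw [neg_neg] at h1
        have h4 := congrArg (fun A => A * M a) h
        simp only [neg_mul, h3, neg_neg] at h4
        exact hone h4.symm
    · rcases hsq a with h3 | h3 <;> rw [h3] at h1
      · have h4 := congrArg (fun A => A * M a) h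
        simp only [neg_mul, h3] at h4
        exact hone h4
      · rw [neg_neg] at h1
        exact hone h1
  -- the two kinds of non-central elements
  let kind : MM → Finset R := fun ε => Finset.univ.filter fun r => M r * M r = ε ∧ M r ≠ 1 ∧ M r ≠ -1
  let e := Fintype.equivFin R
  let half : MM → Finset R := fun ε => (kind ε).filter fun r => e r < e (z * r)
  have hzz : ∀ r : R, z * (z * r) = r := fun r => hMinj (by rw [hneg, hneg, neg_neg])
  have hzne : ∀ r : R, z * r ≠ r := fun r h => hne_neg r (by rw [← hneg, h])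
  have hkz : ∀ ε, ∀ r ∈ kind ε, z * r ∈ kind ε := fun ε r hr => by
    simp only [kind, Finset.mem_filter, Finset.mem_univ, true_and, hneg, neg_mul_neg] at hr ⊢
    exact ⟨hr.1, fun h => hr.2.2 (neg_eq_iff_eq_neg.1 h), fun h => hr.2.1 (neg_inj.1 h)⟩
  have hhalf : ∀ ε, (kind ε).card = 2 * (half ε).card := by
    intro ε
    have e1 := Finset.card_filter_add_card_filter_not (s := kind ε) (fun r => e r < e (z * r))
    have e2 : ((kind ε).filter fun r => ¬ e r < e (z * r)).card = (half ε).card := by
      refine Finset.card_bij' (fun r _ => z * r) (fun r _ => z * r) (fun r hr => ?_) (fun r hr => ?_)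
        (fun r _ => hzz r) (fun r _ => hzz r)
      · simp only [half, Finset.mem_filter, hzz] at hr ⊢
        exact ⟨hkz ε r hr.1, lt_of_le_of_ne (not_lt.1 hr.2) fun h => hzne r (e.injective h)⟩
      · simp only [half, Finset.mem_filter, hzz] at hr ⊢
        exact ⟨hkz ε r hr.1, not_lt.2 hr.2.le⟩
    simp only [half] at e2 ⊢
    omega
  have hhalf_sep : ∀ ε, ∀ a ∈ half ε, ∀ b ∈ half ε, a ≠ b → M a ≠ -M b := by
    intro ε a ha b hb _ h
    have : a = z * b := hMinj (by rw [hneg, h])
    simp only [half, Finset.mem_filter] at ha hb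
    subst this
    rw [hzz] at ha
    exact lt_asymm ha.2 hb.2
  have htot : (kind 1).card + (kind (-1)).card + 2 = 32 := by
    have hd : Disjoint (kind 1) (kind (-1)) := by
      rw [Finset.disjoint_left]
      intro r hr hr'
      simp only [kind, Finset.mem_filter] at hr hr'
      exact hone (hr.2.1.symm.trans hr'.2.1)
    have hu : Finset.univ = (kind 1 ∪ kind (-1)) ∪ {1, z} := by
      refine (Finset.eq_univ_of_forall fun r => ?_).symm
      simp only [kind, Finset.mem_union, Finset.mem_filter, Finset.mem_univ, true_and, Finset.mem_insert,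
        Finset.mem_singleton]
      by_cases h1 : M r = 1
      · exact Or.inr (Or.inl (hMinj (h1.trans hM1.symm)))
      by_cases h3 : M r = -1
      · exact Or.inr (Or.inr (hMinj (h3.trans hz.symm)))
      rcases hsq r with h | h
      · exact Or.inl (Or.inl ⟨h, h1, h3⟩)
      · exact Or.inl (Or.inr ⟨h, h1, h3⟩)
    have hd2 : Disjoint (kind 1 ∪ kind (-1)) {1, z} := by
      rw [Finset.disjoint_left]
      intro r hr hr'
      simp only [kind, Finset.mem_union, Finset.mem_filter, Finset.mem_insert, Finset.mem_singleton] at hr hr'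
      rcases hr' with rfl | rfl
      · rcases hr with h | h <;> exact h.2.2.1 hM1
      · rcases hr with h | h <;> exact h.2.2.2 hz
    have h1z : (1 : R) ≠ z := fun h => hone (by rw [← hz, ← h, hM1])
    have := congrArg Finset.card hu
    rw [Finset.card_union_of_disjoint hd2, Finset.card_union_of_disjoint hd, Finset.card_pair h1z,
      Finset.card_univ, ← Nat.card_eq_fintype_card, hcard] at this
    omega
  have hnoncentral : ∀ r : R, M r ≠ 1 → M r ≠ -1 → ∃ y : R, M r * M y = -(M y * M r) := by
    intro r h1 h3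
    by_contra hcon
    push Not at hcon
    obtain ⟨c, hc⟩ := hcomm_all (M r) fun s => (hsign r s).resolve_right (hcon s)
    rcases hscal r c hc with h | h
    · exact h1 h
    · exact h3 h
  have hselfadj : ∀ r : R, M r * M r = 1 → (M r)ᵀ * J4 = J4 * M r := fun r h => by
    have h0 := congrArg (fun A => A * M r) (hadj r)
    simpa [mul_assoc, h] using h0
  have hskewadj : ∀ r : R, M r * M r = -1 → (M r)ᵀ * J4 = -(J4 * M r) := fun r h => by
    have h0 := congrArg (fun A => A * M r) (hadj r)
    simp only [mul_assoc, h, mul_neg, mul_one] at h0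
    exact neg_eq_iff_eq_neg.1 h0
  have hinTT : ∀ r ∈ kind 1, ∃ v, TT v = M r := by
    intro r hr
    simp only [kind, Finset.mem_filter] at hr
    refine exists_TT h2 (hselfadj r hr.2.1) ?_
    obtain ⟨y, hy⟩ := hnoncentral r hr.2.2.1 hr.2.2.2
    have h1 : (M r * M y * M y⁻¹).trace = (-(M y * M r) * M y⁻¹).trace := by rw [hy]
    rw [neg_mul, Matrix.trace_neg, Matrix.trace_mul_cycle (M y) (M r), mul_assoc (M r), ← hMmul, mul_inv_cancel, hM1,
      mul_one, ← hMmul y⁻¹, inv_mul_cancel, hM1, one_mul] at h1
    exact (mul_eq_zero.1 (show (2 : F) * (M r).trace = 0 by linear_combination h1)).resolve_left h2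
  have hlinR : ∀ ε, LinearIndependent F (fun a : half ε => M a.1) := fun ε => by
    rw [Fintype.linearIndependent_iff]
    intro c hc a
    have := indep (half ε) (hhalf_sep ε) (fun u => if h : u ∈ half ε then c ⟨u, h⟩ else 0) (by
      rw [← Finset.sum_attach, ← hc, Finset.univ_eq_attach]
      exact Finset.sum_congr rfl fun u _ => by rw [dif_pos u.2]) a.1 a.2
    rwa [dif_pos a.2] at this
  have hskew10 : (half (-1)).card ≤ 10 := by
    refine card_skew_le h2 ((hlinR (-1)).comp (half (-1)).equivFin.symm (Equiv.injective _)) fun i => hskewadj _ ?_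
    have := ((half (-1)).equivFin.symm i).2
    simp only [half, kind, Finset.mem_filter] at this
    exact this.1.2.1
  have hmem : ∀ a : half 1, a.1 ∈ kind 1 := fun a => (Finset.mem_filter.1 a.2).1
  choose vv hvv using fun a : half 1 => hinTT a.1 (hmem a)
  have hlinV : LinearIndependent F vv := by
    refine LinearIndependent.of_comp (TT (F := F)) ?_
    convert hlinR 1 using 1
    funext a
    exact hvv a
  have hfive : (half 1).card ≤ 5 := by
    have := hlinV.fintype_card_le_finrank
    rwa [Fintype.card_coe, finrank5] at this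
  have hcard5 : (half 1).card = 5 := by
    have := hhalf 1; have := hhalf (-1); omega
  let idx : Fin 5 ≃ half 1 := ((half 1).equivFinOfCardEq hcard5).symm
  refine ⟨fun i => ((idx i).1 : GG), fun i => vv (idx i), fun i => (idx i).1.2, fun i => hvv _, fun i => ?_,
    fun i j hij => ?_, fun r hr i => hsign ⟨r, hr⟩ (idx i).1, fun g hg i => ?_⟩
  · have h1 := TT_mul_self (vv (idx i))
    rw [hvv, (Finset.mem_filter.1 (hmem (idx i))).2.1] at h1
    have := congrFun (congrFun h1 (.inl 0)) (.inl 0)
    simpa [Matrix.one_apply, eq_comm] using this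
  · have h1 := TT_anticomm (vv (idx i)) (vv (idx j))
    rw [hvv, hvv] at h1
    rcases hsign (idx i).1 (idx j).1 with h | h
    · exfalso
      rw [← h, ← two_smul F] at h1
      have h3 : M (idx i).1 * M (idx j).1 = ((2 : F)⁻¹ * polar Q5 (vv (idx i)) (vv (idx j))) • (1 : MM) := by
        rw [mul_smul, ← h1, smul_smul, inv_mul_cancel₀ h2, one_smul]
      rw [← hMmul] at h3
      have hne : (idx i).1 ≠ (idx j).1 := fun e => hij (idx.injective (Subtype.ext e))
      have hsqj := (Finset.mem_filter.1 (hmem (idx j))).2.1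
      rcases hscal _ _ h3 with h5 | h5 <;> rw [hMmul] at h5 <;>
        have h6 := congrArg (fun A => A * M (idx j).1) h5 <;>
        simp only [mul_assoc, hsqj, mul_one, one_mul, neg_mul] at h6
      · exact hne (hMinj h6)
      · exact hhalf_sep 1 _ (idx i).2 _ (idx j).2 hne h6
    · rw [h, neg_add_cancel] at h1
      exact (smul_eq_zero.1 h1.symm).resolve_right one_ne_zero
  · set a := (idx i).1
    let b : R := ⟨g * (a : GG) * g⁻¹, (Subgroup.mem_set_normalizer_iff.1 hg a).1 a.2⟩
    have hb : M b = (g : MM) * M a * ((g⁻¹ : GG) : MM) := rfl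
    have ha := (Finset.mem_filter.1 (hmem (idx i))).2
    have gg : ((g⁻¹ : GG) : MM) * (g : MM) = 1 := by rw [← Units.val_mul, inv_mul_cancel, Units.val_one]
    have gg' : (g : MM) * ((g⁻¹ : GG) : MM) = 1 := by rw [← Units.val_mul, mul_inv_cancel, Units.val_one]
    have back : M a = ((g⁻¹ : GG) : MM) * M b * (g : MM) := by
      rw [hb]; simp only [← mul_assoc, gg, one_mul]; rw [mul_assoc, gg, mul_one]
    have hbk : b ∈ kind 1 := by
      simp only [kind, Finset.mem_filter, Finset.mem_univ, true_and]
      refine ⟨?_, fun h => ha.2.1 ?_, fun h => ha.2.2 ?_⟩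
      · rw [hb, show (g : MM) * M a * ((g⁻¹ : GG) : MM) * ((g : MM) * M a * ((g⁻¹ : GG) : MM)) =
          (g : MM) * (M a * (((g⁻¹ : GG) : MM) * (g : MM) * M a)) * ((g⁻¹ : GG) : MM) by simp only [mul_assoc],
          gg, one_mul, ha.1, mul_one, gg']
      · rw [back, h, mul_one, gg]
      · rw [back, h, mul_neg, mul_one, neg_mul, gg]
    by_cases hlt : e b < e (z * b)
    · exact ⟨idx.symm ⟨b, Finset.mem_filter.2 ⟨hbk, hlt⟩⟩, Or.inl (by simp only [Equiv.apply_symm_apply]; exact hb.symm)⟩
    · have hzb : z * b ∈ half 1 := Finset.mem_filter.2 ⟨hkz 1 b hbk, by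
        rw [hzz]; exact lt_of_le_of_ne (not_lt.1 hlt) fun h => hzne b (e.injective h)⟩
      refine ⟨idx.symm ⟨z * b, hzb⟩, Or.inr ?_⟩
      simp only [Equiv.apply_symm_apply]
      show (g : MM) * M a * _ = -M (z * b)
      rw [hneg, neg_neg, hb]

/-- The normaliser of a symplectic-type group of order `32`. -/
theorem symplecticType_maximal [Fact (Nat.card F).Prime] (h2 : (2 : F) ≠ 0) (hodd : Odd (Nat.card F))
    {R : Subgroup GG} (hR : Cfsg.Geo.IsSymplecticTypeGroup 2 R)
    (hirr : Cfsg.Geo.ActsAbsolutelyIrreducibly (Cfsg.Geo.matrixSet R)) (hle : R ≤ Cfsg.spGL 2 F)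
    (hcard : Nat.card R = 32) (hZ : Nat.card (Subgroup.center R) = 2) :
    Cfsg.Geo.IsMaximalIn (Cfsg.spGL 2 F) (Cfsg.Geo.subgroupNormalizer R ⊓ Cfsg.spGL 2 F) := by
  classical
  obtain ⟨x, v, hxR, hv, hQv, horth, hsf, hnorm⟩ := exists_five h2 hR hirr hle hcard hZ
  have hQ := nondeg_odd_two (F := F) h2
  have hv0 : ∀ i, v i ≠ 0 := fun i h => by
    have := hQv i; rw [h, QuadraticMap.map_zero] at this; exact zero_ne_one this
  have hli : LinearIndependent F v := by
    rw [Fintype.linearIndependent_iff]
    intro c hc i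
    have h1 : polarBilin Q5 (∑ j, c j • v j) (v i) = 0 := by rw [hc, map_zero, LinearMap.zero_apply]
    rw [map_sum, LinearMap.sum_apply, Finset.sum_eq_single i (fun j _ hj => by
      rw [map_smul, LinearMap.smul_apply, polarBilin_apply_apply, horth j i hj, smul_zero]) (by simp)] at h1
    rw [map_smul, LinearMap.smul_apply, polarBilin_apply_apply, polar_self', hQv, mul_one, smul_eq_mul] at h1
    exact (mul_eq_zero.1 h1).resolve_right h2
  have hspan : Submodule.span F (Set.range v) = ⊤ := by
    refine Submodule.eq_top_of_finrank_eq ?_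
    rw [finrank_span_eq_card hli, Fintype.card_fin, finrank5]
  have hcommall : ∀ B : MM, (∀ i, B * (x i : MM) = (x i : MM) * B) → ∀ w, B * TT w = TT w * B := by
    intro B hB w
    have hw : w ∈ Submodule.span F (Set.range v) := by rw [hspan]; trivial
    induction hw using Submodule.span_induction with
    | mem w hw => obtain ⟨i, rfl⟩ := hw; rw [hv]; exact hB i
    | zero => simp
    | add a b _ _ ha hb => rw [map_add, mul_add, add_mul, ha, hb]
    | smul c a _ ha => rw [map_smul, mul_smul_comm, smul_mul_assoc, ha]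
  have hanti : ∀ i j, i ≠ j → (x i : MM) * (x j : MM) = -((x j : MM) * (x i : MM)) := fun i j hij => by
    have := TT_anticomm (v i) (v j)
    rw [hv, hv, horth i j hij, zero_smul] at this
    exact eq_neg_of_add_eq_zero_left this
  -- the sign stabiliser is the group itself
  let E : Set GG := {g | g ∈ Cfsg.spGL 2 F ∧ SignFix (fun i => (x i : MM)) g}
  have hRE : ∀ r ∈ R, r ∈ E := fun r hr => ⟨hle hr, hsf r hr⟩
  have hE : ∀ g ∈ E, g ∈ R := by
    haveI : Finite GG := Finite.of_injective (fun g : GG => (g : MM)) fun a b h => Units.ext h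
    haveI := Fintype.ofFinite GG
    let sgn : GG → Fin 5 → Bool := fun g i => decide ((g : MM) * (x i : MM) = (x i : MM) * (g : MM))
    have hcomm : ∀ g ∈ E, ∀ h ∈ E, (∀ i : Fin 4, sgn g i.castSucc = sgn h i.castSucc) →
        (g : MM) = (h : MM) ∨ (g : MM) = -(h : MM) := by
      intro g hg h hh heq
      have hu : (h⁻¹ * g : GG) ∈ Cfsg.spGL 2 F := mul_mem (inv_mem hh.1) hg.1
      set B : MM := ((h⁻¹ * g : GG) : MM) with hB
      have hhh : ((h⁻¹ : GG) : MM) * (h : MM) = 1 := by rw [← Units.val_mul, inv_mul_cancel, Units.val_one]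
      have hh' : (h : MM) * ((h⁻¹ : GG) : MM) = 1 := by rw [← Units.val_mul, mul_inv_cancel, Units.val_one]
      have hsB : ∀ i, B * (x i : MM) = (x i : MM) * B ∨ B * (x i : MM) = -((x i : MM) * B) := by
        intro i
        rw [hB, Units.val_mul, mul_assoc]
        have ehi : ∀ ε : F, (h : MM) * (x i : MM) = ε • ((x i : MM) * (h : MM)) →
            (x i : MM) * ((h⁻¹ : GG) : MM) = ε • (((h⁻¹ : GG) : MM) * (x i : MM)) := fun ε he => by
          have h1 := congrArg (fun A => ((h⁻¹ : GG) : MM) * A * ((h⁻¹ : GG) : MM)) he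
          simpa [← mul_assoc, hhh, hh', mul_smul_comm, smul_mul_assoc, mul_assoc] using h1
        rcases hg.2 i with h1 | h1 <;> rcases hh.2 i with h3 | h3 <;> rw [h1]
        · left
          have h4 := ehi 1 (by rw [one_smul]; exact h3)
          rw [one_smul] at h4
          rw [← mul_assoc, ← h4, mul_assoc]
        · right
          have h4 := ehi (-1) (by rw [neg_one_smul]; exact h3)
          rw [neg_one_smul] at h4
          rw [← mul_assoc _ (x i : MM), ← mul_assoc (x i : MM), h4, neg_mul, neg_neg]
        · right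
          have h4 := ehi 1 (by rw [one_smul]; exact h3)
          rw [one_smul] at h4
          rw [mul_neg, ← mul_assoc _ (x i : MM), ← mul_assoc (x i : MM), h4]
        · left
          have h4 := ehi (-1) (by rw [neg_one_smul]; exact h3)
          rw [neg_one_smul] at h4
          rw [mul_neg, ← mul_assoc _ (x i : MM), ← mul_assoc (x i : MM), h4, neg_mul]
      have hfour : ∀ i : Fin 4, B * (x i.castSucc : MM) = (x i.castSucc : MM) * B := by
        intro i
        have hse := heq i
        simp only [sgn, decide_eq_decide] at hse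
        rw [hB, Units.val_mul, mul_assoc]
        rcases hh.2 i.castSucc with h3 | h3
        · rw [hse.2 h3, ← mul_assoc, ← mul_assoc]
          congr 1
          have h1 := congrArg (fun A => ((h⁻¹ : GG) : MM) * A * ((h⁻¹ : GG) : MM)) h3
          simp only [← mul_assoc, hhh, one_mul] at h1
          rw [h1, mul_assoc, hh', mul_one]
        · have hne : ¬ (h : MM) * (x i.castSucc : MM) = (x i.castSucc : MM) * (h : MM) := fun e => by
            have h7 : (h : MM) * (x i.castSucc : MM) = 0 := by
              have h8 : (2 : F) • ((h : MM) * (x i.castSucc : MM)) = 0 := by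
                rw [two_smul]; exact add_eq_zero_iff_eq_neg.2 (by rw [e] at h3 ⊢; exact h3)
              exact (smul_eq_zero.1 h8).resolve_left h2
            have h9 := congrArg (fun A => ((h⁻¹ : GG) : MM) * A) h7
            simp only [← mul_assoc, hhh, one_mul, mul_zero] at h9
            exact Units.ne_zero (x i.castSucc) h9
          rw [(hg.2 i.castSucc).resolve_left fun h1 => hne (hse.1 h1), mul_neg, ← mul_assoc, ← mul_assoc, ← neg_mul]
          congr 1
          have h1 := congrArg (fun A => ((h⁻¹ : GG) : MM) * A * ((h⁻¹ : GG) : MM)) h3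
          simp only [← mul_assoc, hhh, one_mul, mul_neg, neg_mul] at h1
          rw [h1, mul_assoc _ (h : MM), hh', mul_one]
      -- the product of all five is a non-zero scalar
      set P : MM := (x 0 : MM) * (x 1 : MM) * (x 2 : MM) * (x 3 : MM) * (x 4 : MM) with hP
      have hPc : ∀ i, P * (x i : MM) = (x i : MM) * P := by
        intro i
        let δ : Fin 5 → F := fun j => if j = i then 1 else -1
        have hd : ∀ j, (x j : MM) * (x i : MM) = δ j • ((x i : MM) * (x j : MM)) := fun j => by
          simp only [δ]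
          split_ifs with h
          · rw [h, one_smul]
          · rw [neg_one_smul, hanti j i h]
        have mv : ∀ (A : MM) (ε : F) (j : Fin 5), A * (x i : MM) = ε • ((x i : MM) * A) →
            A * (x j : MM) * (x i : MM) = (δ j * ε) • ((x i : MM) * (A * (x j : MM))) := fun A ε j hA => by
          rw [mul_assoc, hd, mul_smul_comm, ← mul_assoc, hA, smul_mul_assoc, smul_smul, mul_assoc]
        have h4 := mv _ _ 4 (mv _ _ 3 (mv _ _ 2 (mv _ _ 1 (hd 0))))
        have hprod : δ 4 * (δ 3 * (δ 2 * (δ 1 * δ 0))) = 1 := by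
          fin_cases i <;> simp [δ]
        rw [hP, h4, hprod, one_smul]
      obtain ⟨c, hc⟩ := scalar_of_commute h2 (hcommall P hPc)
      have hlast : B * (x 4 : MM) = (x 4 : MM) * B := by
        refine (hsB 4).resolve_right fun h5 => ?_
        have k0 : B * (x 0 : MM) = (x 0 : MM) * B := hfour 0
        have k1 : B * (x 1 : MM) = (x 1 : MM) * B := hfour 1
        have k2 : B * (x 2 : MM) = (x 2 : MM) * B := hfour 2
        have k3 : B * (x 3 : MM) = (x 3 : MM) * B := hfour 3
        have hBP : B * P = -(P * B) := by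
          simp only [hP, ← mul_assoc]
          rw [k0, mul_assoc (x 0 : MM) B, k1, ← mul_assoc, mul_assoc _ B, k2, ← mul_assoc, mul_assoc _ B, k3,
            ← mul_assoc, mul_assoc _ B, h5, mul_neg, ← mul_assoc]
        rw [hc, mul_smul_comm, smul_mul_assoc, mul_one, one_mul] at hBP
        have h8 : (2 * c) • B = 0 := by rw [mul_smul, two_smul]; exact add_eq_zero_iff_eq_neg.2 hBP
        have hc0 : c ≠ 0 := fun e => by
          rw [e, zero_smul] at hc
          exact Units.ne_zero (x 0 * x 1 * x 2 * x 3 * x 4) (by simp only [Units.val_mul]; exact hc)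
        exact Units.ne_zero (h⁻¹ * g) ((smul_eq_zero.1 h8).resolve_left (mul_ne_zero h2 hc0))
      obtain ⟨c', hc'⟩ := scalar_of_commute h2 (hcommall B (Fin.lastCases hlast hfour))
      obtain ⟨y, hy⟩ := CfsgLib.PrimeOrderSp.exists_spToGL hu
      have h1 := sp4_transpose_J y
      rw [show (y : MM) = B by rw [hB, ← hy]; rfl, hc'] at h1
      have h3 := congrFun (congrFun h1 (.inl 0)) (.inr 0)
      simp [Matrix.J, Matrix.smul_mul, Matrix.mul_smul] at h3
      have h4 : c' * c' = 1 := by linear_combination h3
      have e : (g : MM) = c' • (h : MM) := by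
        have := congrArg (fun A => (h : MM) * A) hc'
        simpa [hB, ← mul_assoc, hh'] using this
      rcases mul_self_eq_one_iff.1 h4 with rfl | rfl
      · exact Or.inl (by rw [e, one_smul])
      · exact Or.inr (by rw [e, neg_one_smul])
    -- counting
    let Es : Finset GG := Finset.univ.filter (· ∈ E)
    let f : GG → (Fin 4 → Bool) := fun g i => sgn g i.castSucc
    have hfib : ∀ b ∈ (Finset.univ : Finset (Fin 4 → Bool)), (Es.filter fun g => f g = b).card ≤ 2 := by
      intro b _
      rcases (Es.filter fun g => f g = b).eq_empty_or_nonempty with h | ⟨g₀, hg₀⟩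
      · simp [h]
      simp only [Es, Finset.mem_filter, Finset.mem_univ, true_and] at hg₀
      refine (Finset.card_le_card (t := {g₀, -g₀}) fun g hg => ?_).trans Finset.card_le_two
      simp only [Es, Finset.mem_filter, Finset.mem_univ, true_and] at hg
      rw [Finset.mem_insert, Finset.mem_singleton]
      rcases hcomm g hg.1 g₀ hg₀.1 (fun i => congrFun (hg.2.trans hg₀.2.symm) i) with h | h
      · exact Or.inl (Units.ext h)
      · exact Or.inr (Units.ext h)
    have hEs : Es.card ≤ 32 := by
      rw [Finset.card_eq_sum_card_fiberwise (t := Finset.univ) (f := f) (fun _ _ => Finset.mem_univ _)]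
      exact (Finset.sum_le_sum hfib).trans (by simp)
    intro g hg
    haveI := Fintype.ofFinite R
    have : (R : Set GG).toFinset = Es := Finset.eq_of_subset_of_card_le
      (fun r hr => by simpa [Es] using hRE r (by simpa using hr))
      (by
        rw [Set.toFinset_card, ← Nat.card_eq_fintype_card]
        exact hEs.trans hcard.ge)
    have hm : g ∈ (R : Set GG).toFinset := by rw [this]; simpa [Es] using hg
    simpa using hm
  let D : Fin 5 → Submodule F V5 := fun i => Submodule.span F {v i}
  have hD : Cfsg.Geo.IsOrthogonalMDecomposition (⇑Q5) 1 D := by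
    refine ⟨⟨⟨by norm_num, one_pos, fun i => finrank_span_singleton (hv0 i), hli.iSupIndep_span_singleton, ?_⟩, ?_, ?_⟩, ?_⟩
    · rw [← hspan, ← Submodule.span_range_eq_iSup]
    · intro i w hw hw0
      obtain ⟨c, rfl⟩ := Submodule.mem_span_singleton.1 hw
      have hc : c ≠ 0 := fun h => hw0 (by rw [h, zero_smul])
      exact ⟨⟨v i, Submodule.mem_span_singleton_self _, by
          rw [polar_smul_right', polar_self', hQv]; exact mul_ne_zero hc (by simpa using h2)⟩,
        ⟨v i, Submodule.mem_span_singleton_self _, by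
          rw [polar_smul_left', polar_self', hQv]; exact mul_ne_zero hc (by simpa using h2)⟩⟩
    · intro i j hij a ha b hb
      obtain ⟨c, rfl⟩ := Submodule.mem_span_singleton.1 ha
      obtain ⟨c', rfl⟩ := Submodule.mem_span_singleton.1 hb
      rw [polar_smul_left', polar_smul_right', horth i j hij, mul_zero, mul_zero]
    · intro i j
      refine ⟨(LinearEquiv.toSpanNonzeroSingleton F V5 (v i) (hv0 i)).symm.trans
        (LinearEquiv.toSpanNonzeroSingleton F V5 (v j) (hv0 j)), fun w => ?_⟩
      obtain ⟨c, rfl⟩ := (LinearEquiv.toSpanNonzeroSingleton F V5 (v i) (hv0 i)).surjective w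
      rw [LinearEquiv.trans_apply, LinearEquiv.symm_apply_apply]
      show Q5 (c • v j) = Q5 (c • v i)
      simp only [CfsgLib.Geometry.map_smul', hQv]
  refine maximal_of_omega h2 hodd (T := Cfsg.Geo.decompositionStabilizer D) (fun y => ?_)
    (CfsgLib.OrthFrame.frame_maximal_of h2 hQ (by rw [card5]) (Or.inr (by rw [card5]; decide)) hD)
  set φ := (toO5 h2 y : V5 ≃ₗ[F] V5)
  have hlin : Matrix.toLin' ((orthToGL Q5 (toO5 h2 y) : Matrix.GeneralLinearGroup _ F) :
      Matrix (Unit ⊕ (Fin 2 ⊕ Fin 2)) (Unit ⊕ (Fin 2 ⊕ Fin 2)) F) = φ.toLinearMap :=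
    LinearMap.ext fun w => by rw [Matrix.toLin'_apply, orthToGL_mulVec]; rfl
  have hT : ∀ w, TT (φ w) = (y : MM) * TT w * ((y⁻¹ : Sp4) : MM) := TT_toO5 h2 y
  have hinv : (((CfsgLib.PrimeOrderSp.spToGL F 2 y)⁻¹ : GG) : MM) = ((y⁻¹ : Sp4) : MM) := by
    rw [← map_inv]; rfl
  constructor
  · intro hg
    have hφv : ∀ i, ∃ j, φ (v i) = v j ∨ φ (v i) = -v j := by
      intro i
      obtain ⟨j, hj⟩ := hnorm _ hg i
      refine ⟨j, ?_⟩
      rw [hinv, CfsgLib.PrimeOrderSp.spToGL_val, ← hv, ← hv, ← hT, ← map_neg] at hj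
      exact hj.imp (fun h => TT_injective h) (fun h => TT_injective h)
    choose σ hσ using hφv
    have hσinj : Function.Injective σ := by
      intro i k hik
      by_contra hne
      have h1 := orth_polar (toO5 h2 y).2 (v i) (v k)
      change polar Q5 (φ (v i)) (φ (v k)) = _ at h1
      rw [horth i k hne] at h1
      rcases hσ i with a | a <;> rcases hσ k with b | b <;>
        rw [a, b, hik] at h1 <;>
        simp [polar_neg_left, polar_neg_right, polar_self', hQv] at h1 <;> exact h2 h1
    refine ⟨Equiv.ofBijective σ (Finite.injective_iff_bijective.1 hσinj), fun i => ?_⟩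
    rw [hlin, Equiv.ofBijective_apply, Submodule.map_span, Set.image_singleton]
    show Submodule.span F {φ (v i)} = _
    rcases hσ i with a | a <;> rw [a]
    rw [Submodule.span_singleton_eq_span_singleton]
    exact ⟨-1, by simp⟩
  · rintro ⟨σ, hσ⟩
    have hφv : ∀ i, φ (v i) = v (σ i) ∨ φ (v i) = -v (σ i) := by
      intro i
      have hm : φ (v i) ∈ D (σ i) := by
        rw [← hσ i, hlin]; exact ⟨v i, Submodule.mem_span_singleton_self _, rfl⟩
      obtain ⟨c, hc⟩ := Submodule.mem_span_singleton.1 hm
      have h1 : Q5 (φ (v i)) = Q5 (v i) := mem_orth.1 (toO5 h2 y).2 (v i)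
      rw [← hc, CfsgLib.Geometry.map_smul', hQv, hQv, mul_one] at h1
      rcases mul_self_eq_one_iff.1 h1 with h | h
      · exact Or.inl (by rw [← hc, h, one_smul])
      · exact Or.inr (by rw [← hc, h, neg_one_smul])
    set g : GG := CfsgLib.PrimeOrderSp.spToGL F 2 y
    have hgx : ∀ i, (g : MM) * (x i : MM) * ((g⁻¹ : GG) : MM) = (x (σ i) : MM) ∨
        (g : MM) * (x i : MM) * ((g⁻¹ : GG) : MM) = -(x (σ i) : MM) := by
      intro i
      rw [hinv, CfsgLib.PrimeOrderSp.spToGL_val, ← hv, ← hv, ← hT, ← map_neg]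
      exact (hφv i).imp (fun h => by rw [h]) (fun h => by rw [h])
    have hgR : ∀ r ∈ R, g * r * g⁻¹ ∈ R := by
      intro r hr
      refine hE _ ⟨mul_mem (mul_mem (CfsgLib.PrimeOrderSp.spToGL_mem y) (hle hr))
        (inv_mem (CfsgLib.PrimeOrderSp.spToGL_mem y)), fun j => ?_⟩
      have gg : ((g⁻¹ : GG) : MM) * (g : MM) = 1 := by rw [← Units.val_mul, inv_mul_cancel, Units.val_one]
      obtain ⟨i, rfl⟩ := σ.surjective j
      obtain ⟨ε, hε, he⟩ : ∃ ε : F, ε * ε = 1 ∧ (x (σ i) : MM) = ε • ((g : MM) * (x i : MM) * ((g⁻¹ : GG) : MM)) := by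
        rcases hgx i with h | h
        · exact ⟨1, one_mul 1, by rw [one_smul, h]⟩
        · exact ⟨-1, by simp, by rw [neg_one_smul, h, neg_neg]⟩
      show ((g * r * g⁻¹ : GG) : MM) * (x (σ i) : MM) = (x (σ i) : MM) * _ ∨ _
      simp only [he, Units.val_mul, mul_smul_comm, smul_mul_assoc]
      rcases hsf r hr i with h | h
      · left
        congr 1
        simp only [mul_assoc]
        rw [← mul_assoc _ (g : MM), gg, one_mul, ← mul_assoc (r : MM), h, ← mul_assoc _ (g : MM), gg, one_mul, mul_assoc]
      · right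
        rw [← smul_neg]
        congr 1
        simp only [mul_assoc]
        rw [← mul_assoc _ (g : MM), gg, one_mul, ← mul_assoc (r : MM), h, ← mul_assoc _ (g : MM), gg, one_mul,
          neg_mul, mul_neg, mul_assoc]
    refine Subgroup.mem_set_normalizer_iff.2 fun r => ⟨hgR r, fun hr => ?_⟩
    haveI : Finite R := Nat.finite_of_card_ne_zero (by omega)
    let c : R → R := fun s => ⟨g * s * g⁻¹, hgR s s.2⟩
    obtain ⟨s, hs⟩ := (Finite.injective_iff_surjective.1 (show Function.Injective c from fun a b h =>
      Subtype.ext (by simpa [c] using congrArg Subtype.val h))) ⟨_, hr⟩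
    have : (s : GG) = r := by simpa [c] using congrArg Subtype.val hs
    exact this ▸ s.2

end CfsgLib.Sp4Odd
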